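import Groth.Agent.Lib.BCCoh.Flat
import Groth.Agent.Lib.FlatFP.BaseChangeAt
import Groth.Agent.Lib.FlatFP.InjCokerSheaf
import Groth.Agent.Lib.FittSheaf.PullbackFP
import Groth.Agent.Lib.FlatModel.Descent

/-!
# Sections of modules on affine schemes: finite presentation and flatness
-/

set_option linter.style.haveILetI false

universe u

open CategoryTheory Limits AlgebraicGeometry TensorProduct

noncomputable section

namespace GrothLib.PureFlatRep8

/-- Finite presentation of global sections over the ring of an affine scheme. -/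
theorem finitePresentation_top {R : CommRingCat.{u}} (N : (Spec R).Modules) [N.IsQuasicoherent]
    (hN : CohB1.IsFP N) : Module.FinitePresentation R Γ(N, ⊤) := by
  have := FlatFP.finitePresentation_sections N hN (isAffineOpen_top (Spec R))
  have hb : Function.Bijective (algebraMap R Γ(Spec R, ⊤)) := by
    have : algebraMap R Γ(Spec R, ⊤) = (Scheme.ΓSpecIso R).inv.hom := by
      refine RingHom.ext fun r => ?_
      show (Spec R).presheaf.map ((⊤ : (Spec R).Opens).leTop).op ((Scheme.ΓSpecIso R).inv r) = _
      rw [show ((⊤ : (Spec R).Opens).leTop).op = 𝟙 _ from rfl]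
      simp
    rw [this]
    exact ConcreteCategory.bijective_of_isIso (Scheme.ΓSpecIso R).inv
  have : Module.FinitePresentation R Γ(Spec R, ⊤) :=
    Module.FinitePresentation.of_equiv (LinearEquiv.ofBijective (Algebra.linearMap R Γ(Spec R, ⊤)) hb)
  exact Module.FinitePresentation.trans R Γ(N, ⊤) Γ(Spec R, ⊤)

/-- Flatness over the base of a quasi-coherent module on an affine scheme, on global sections. -/
theorem isFlatOver_top_iff {R C : CommRingCat.{u}} (φ : R ⟶ C) (N : (Spec C).Modules) [N.IsQuasicoherent] :
    FlatMod.IsFlatOver (Spec.map φ) N ↔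
      (letI : Module R Γ(N, ⊤) := Module.compHom _ φ.hom; Module.Flat R Γ(N, ⊤)) := by
  let R' := Γ(Spec R, ⊤)
  let C' := Γ(Spec C, ⊤)
  letI iR : Module R Γ(N, ⊤) := Module.compHom _ φ.hom
  letI : Algebra R' C' := ((Spec.map φ).appLE ⊤ ⊤ le_top).hom.toAlgebra
  letI iR' : Module R' Γ(N, ⊤) := Module.compHom _ (algebraMap R' C')
  haveI : IsScalarTower R' C' Γ(N, ⊤) := IsScalarTower.of_algebraMap_smul fun _ _ => rfl
  let σ : R ≃+* R' := (Scheme.ΓSpecIso R).symm.commRingCatIsoToRingEquiv
  have key : ∀ (r : R) (x : Γ(N, ⊤)), σ r • x = r • x := fun r x => by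
    show ((Spec.map φ).appLE ⊤ ⊤ le_top) ((Scheme.ΓSpecIso R).inv r) • x = φ r • x
    rw [Scheme.Modules.smul_Spec_def, show ((⊤ : (Spec C).Opens).leTop).op = 𝟙 _ from rfl]
    congr 1
    have : ((Spec.map φ).appLE ⊤ ⊤ le_top) = (Spec.map φ).appTop := by
      simp [Scheme.Hom.appLE]
    rw [this]
    exact (ConcreteCategory.congr_hom (Scheme.ΓSpecIso_inv_naturality φ) r).symm
  have hflat : Module.Flat R' Γ(N, ⊤) ↔ Module.Flat R Γ(N, ⊤) := by
    constructor
    · intro h
      letI : Algebra R R' := σ.toRingHom.toAlgebra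
      haveI : IsScalarTower R R' Γ(N, ⊤) := IsScalarTower.of_algebraMap_smul key
      haveI : Module.Flat R R' := RingHom.flat_algebraMap_iff.mp (RingHom.Flat.of_bijective σ.bijective)
      exact Module.Flat.trans R R' _
    · intro h
      letI : Algebra R' R := σ.symm.toRingHom.toAlgebra
      haveI : IsScalarTower R' R Γ(N, ⊤) := IsScalarTower.of_algebraMap_smul fun r x => by
        show σ.symm r • x = r • x
        rw [← key, RingEquiv.apply_symm_apply]
      haveI : Module.Flat R' R := RingHom.flat_algebraMap_iff.mp (RingHom.Flat.of_bijective σ.symm.bijective)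
      exact Module.Flat.trans R' R _
  rw [← hflat]
  constructor
  · intro h
    exact BCCoh.flat_sections (Spec.map φ) N h (isAffineOpen_top _) (isAffineOpen_top _) le_top
  · intro h x
    rw [FlatFP.isFlatOverAt_iff (Spec.map φ) N (isAffineOpen_top _) (isAffineOpen_top _) le_top
      (show x ∈ (⊤ : (Spec C).Opens) from trivial) rfl]
    exact FlatModel.flat_localizedModule _

/-- A flat module gives a sheaf flat over the base. -/
theorem isFlatOver_tilde' {R C : CommRingCat.{u}} (φ : R ⟶ C) (M : ModuleCat.{u} C) [Module R M]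
    (hc : ∀ (r : R) (m : M), r • m = φ r • m) [Module.Flat R M] :
    FlatMod.IsFlatOver (Spec.map φ) (tilde M) := by
  refine (isFlatOver_top_iff φ (tilde M)).mpr ?_
  letI iN : Module R Γ(tilde M, ⊤) := Module.compHom _ φ.hom
  let eN := (tilde.isoTop M).toLinearEquiv
  let e' : Γ(tilde M, ⊤) ≃ₗ[R] M :=
    { toFun := fun x => eN.symm x
      invFun := fun x => eN x
      left_inv := eN.apply_symm_apply
      right_inv := eN.symm_apply_apply
      map_add' := map_add eN.symm
      map_smul' := fun a x => (eN.symm.map_smul (φ a) x).trans (hc a _).symm }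
  exact Module.Flat.of_linearEquiv e'

end GrothLib.PureFlatRep8
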