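import Groth.Agent.Lib.PureFlatRep8.Phi
import Groth.Agent.Lib.RelAss13.Cons
import Groth.Agent.Lib.RG6.Dev.Complete
import Groth.Agent.S1226
import Groth.Agent.S1256

/-!
# Representability near a point over which the module is pure
-/

set_option autoImplicit false
set_option linter.style.haveILetI false
set_option linter.unusedSectionVars false
set_option backward.isDefEq.respectTransparency false
set_option maxHeartbeats 800000

universe u

open TensorProduct FlatCA CategoryTheory CategoryTheory.Limits AlgebraicGeometry GrothLib.DevFlatRep8 GrothLib.RelAss13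

namespace GrothLib.PureFlatRep8

attribute [local instance] Algebra.TensorProduct.rightAlgebra

theorem exists_rep_forall {X : Scheme.{u}} :
    ∀ (k : ℕ) (W : Fin k → Scheme.{u}) (w : ∀ j, W j ⟶ X),
      (∀ j, Mono (w j) ∧ LocallyOfFinitePresentation (w j) ∧ QuasiCompact (w j)) →
      ∃ (Z : Scheme.{u}) (z : Z ⟶ X), Mono z ∧ LocallyOfFinitePresentation z ∧ QuasiCompact z ∧
        ∀ (T : Scheme.{u}) (x : T ⟶ X), (∀ j, ∃ a, a ≫ w j = x) ↔ ∃ a, a ≫ z = x := by
  intro k
  induction k with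
  | zero =>
    intro W w _
    exact ⟨X, 𝟙 X, inferInstance, inferInstance, inferInstance,
      fun T x => ⟨fun _ => ⟨x, Category.comp_id x⟩, fun _ j => j.elim0⟩⟩
  | succ k ih =>
    intro W w hw
    obtain ⟨Z, z, hm, hl, hq, hZ⟩ := ih (fun j => W j.castSucc) (fun j => w j.castSucc) fun j => hw j.castSucc
    obtain ⟨hm', hl', hq'⟩ := hw (Fin.last k)
    haveI := hm
    haveI := hl
    haveI := hq
    haveI := hm'
    haveI := hl'
    haveI := hq'
    refine ⟨pullback z (w (Fin.last k)), pullback.fst _ _ ≫ z, mono_comp _ _, inferInstance, inferInstance, fun T x => ⟨fun h => ?_, ?_⟩⟩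
    · obtain ⟨a, ha⟩ := (hZ T x).1 fun j => h j.castSucc
      obtain ⟨b, hb⟩ := h (Fin.last k)
      exact ⟨pullback.lift a b (ha.trans hb.symm), by rw [pullback.lift_fst_assoc, ha]⟩
    · rintro ⟨a, ha⟩ j
      induction j using Fin.lastCases with
      | last => exact ⟨a ≫ pullback.snd _ _, by rw [Category.assoc, ← pullback.condition, ha]⟩
      | cast j => exact (hZ T x).2 ⟨a ≫ pullback.fst _ _, by rw [Category.assoc, ha]⟩ j

/-- The image of an étale algebra. -/
theorem exists_image_ideal {B C : Type u} [CommRing B] [CommRing C] [Algebra B C] [Algebra.Etale B C] :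
    ∃ J : Ideal B, J.FG ∧ ∀ (m : Ideal B) [m.IsPrime],
      (∃ m' : Ideal C, m'.IsPrime ∧ m'.comap (algebraMap B C) = m) ↔ ¬ J ≤ m := by
  obtain ⟨J, hJ, hJset⟩ := PrimeSpectrum.isCompact_isOpen_iff_ideal.1
    ⟨isCompact_range (PrimeSpectrum.continuous_comap (algebraMap B C)),
      (PrimeSpectrum.isOpenMap_comap_of_hasGoingDown_of_finitePresentation (R := B) (S := C)).isOpen_range⟩
  refine ⟨J, hJ, fun m hm => ?_⟩
  have h1 := Set.ext_iff.1 hJset ⟨m, hm⟩
  rw [Set.mem_compl_iff, PrimeSpectrum.mem_zeroLocus, SetLike.coe_subset_coe] at h1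
  rw [h1]
  exact ⟨fun ⟨m', hm', h⟩ => ⟨⟨m', hm'⟩, PrimeSpectrum.ext h⟩,
    fun ⟨x, hx⟩ => ⟨x.asIdeal, x.isPrime, congrArg PrimeSpectrum.asIdeal hx⟩⟩

/-- The associated points of the nearby fibres lie in an open covering the nearby fibres. -/
theorem exists_away_cover {A B : Type u} [CommRing A] [CommRing B] [Algebra A B] [Algebra.FinitePresentation A B]
    (N : Type u) [AddCommGroup N] [Module B N] [Module A N] [IsScalarTower A B N] [Module.FinitePresentation B N]
    (p : Ideal A) [p.IsPrime] (J : Ideal B) (hJ : J.FG) (hle : ∀ (t : Ideal A) [t.IsPrime], t ≤ p → KillFree N J t) :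
    ∃ g ∉ p, ∀ (t : Ideal A) [t.IsPrime], g ∉ t → ∀ (q : Ideal B) [q.IsPrime] [q.LiesOver t],
      fiberIdeal t q ∈ associatedPrimes (t.Fiber B) (fiberMod t B N) → ¬ J ≤ q := by
  obtain ⟨S, _, φ, hφ⟩ := PrimeSpectrum.exists_range_eq_of_isConstructible (isConstructible_killFree (A := A) N J hJ).compl
  obtain ⟨g, hg, hgp⟩ : ∃ g ∈ RingHom.ker φ, g ∉ p := by
    refine SetLike.not_le_iff_exists.1 fun hker => ?_
    obtain ⟨t₀, ht₀, ht₀p⟩ := Ideal.exists_minimalPrimes_le hker
    haveI := ht₀.1.1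
    obtain ⟨s, hs, -, hst⟩ := Ideal.exists_comap_eq_of_mem_minimalPrimes φ t₀ (I := ⊥) ht₀
    have h1 : (⟨t₀, inferInstance⟩ : PrimeSpectrum A) ∈ Set.range (PrimeSpectrum.comap φ) :=
      ⟨⟨s, hs⟩, PrimeSpectrum.ext hst⟩
    rw [hφ] at h1
    exact h1 (hle t₀ ht₀p)
  refine ⟨g, hgp, fun t _ hgt => (killFree_iff J t).1 ?_⟩
  by_contra hne
  obtain ⟨s, hs⟩ : (⟨t, inferInstance⟩ : PrimeSpectrum A) ∈ Set.range (PrimeSpectrum.comap φ) := by
    rw [hφ]; exact hne
  refine hgt ?_
  rw [show t = s.asIdeal.comap φ from (congrArg PrimeSpectrum.asIdeal hs).symm, Ideal.mem_comap, RingHom.mem_ker.1 hg]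
  exact zero_mem _

/-- Étale algebras covering the fibre over `p'` detect the condition near `p'`. -/
def Spreads (A B : Type u) [CommRing A] [CommRing B] [Algebra A B] (N : Type u) [AddCommGroup N] [Module B N]
    (A' : Type u) [CommRing A'] [Algebra A A'] (p' : Ideal A') (n : ℕ) : Prop :=
  ∀ (BA NA : Type u) [CommRing BA] [Algebra B BA] [Algebra A' BA] [Algebra A BA] [IsScalarTower A B BA]
    [IsScalarTower A A' BA] [Algebra.IsPushout A B A' BA] [AddCommGroup NA] [Module BA NA] [Module B NA]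
    [IsScalarTower B BA NA] (fA : N →ₗ[B] NA), IsBaseChange BA fA →
    ∀ (k : ℕ) (C : Fin k → Type u) [∀ j, CommRing (C j)] [∀ j, Algebra BA (C j)] [∀ j, Algebra A' (C j)]
      [∀ j, IsScalarTower A' BA (C j)] [∀ j, Algebra.Etale BA (C j)]
      (Nc : Fin k → Type u) [∀ j, AddCommGroup (Nc j)] [∀ j, Module (C j) (Nc j)] [∀ j, Module BA (Nc j)]
      [∀ j, IsScalarTower BA (C j) (Nc j)] (γ : ∀ j, NA →ₗ[BA] Nc j), (∀ j, IsBaseChange (C j) (γ j)) →
      (∀ (Q : Ideal BA) [Q.IsPrime], Q.LiesOver p' →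
        ∃ (j : Fin k) (Q' : Ideal (C j)), Q'.IsPrime ∧ Q'.comap (algebraMap BA (C j)) = Q) →
      ∃ g : A', g ∉ p' ∧ ∀ (R : Type u) [CommRing R] [Algebra A' R], IsUnit (algebraMap A' R g) →
        (∀ j, Phi A' (C j) (Nc j) R 1 n) → Phi A' BA NA R 1 n

theorem spreads_of_isPureAlong {A B : Type u} [CommRing A] [CommRing B] [Algebra A B] [Algebra.FinitePresentation A B]
    (N : Type u) [AddCommGroup N] [Module B N] [Module.FinitePresentation B N]
    (p : Ideal A) [p.IsPrime] (hpure : IsPureAlong A B N p) (A' : Type u) [CommRing A'] [Algebra A A']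
    (p' : Ideal A') [p'.IsPrime] (hnb : IsEtaleNhd A A' p p') (n : ℕ) : Spreads A B N A' p' n := by
  classical
  intro BA NA _ _ _ _ _ _ _ _ _ _ _ fA hfA k C _ _ _ _ _ Nc _ _ _ _ γ hγ hcover
  haveI : Algebra.Etale A A' := hnb.1
  obtain ⟨ho, -⟩ := hnb.2
  haveI := ho
  haveI : Algebra.IsPushout A A' B BA := Algebra.IsPushout.symm ‹Algebra.IsPushout A B A' BA›
  haveI : Algebra.FinitePresentation A' BA :=
    (inferInstance : Algebra.FinitePresentation A' (A' ⊗[A] B)).equiv (Algebra.IsPushout.equiv A A' B BA)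
  haveI : Module.FinitePresentation BA NA := Module.FinitePresentation.of_equiv hfA.equiv
  letI : Module A' NA := Module.compHom NA (algebraMap A' BA)
  haveI : IsScalarTower A' BA NA := IsScalarTower.of_algebraMap_smul fun _ _ => rfl
  have hpure' : IsPureAlong A' BA NA p' := Groth.Agent.S1226.result N p A' BA NA fA hfA p' hpure
  choose J hJfg hJ using fun j => exists_image_ideal (B := BA) (C := C j)
  have hsup : ∀ m : Ideal BA, ¬ Finset.univ.sup J ≤ m ↔ ∃ j, ¬ J j ≤ m := fun m => by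
    rw [Finset.sup_le_iff]; push Not; simp
  have hle : ∀ (t : Ideal A') [t.IsPrime], t ≤ p' → KillFree NA (Finset.univ.sup J) t := by
    intro t _ ht
    rw [killFree_iff]
    intro q _ hq hass hJq
    haveI : p'.LiesOver p' := ⟨(Ideal.comap_id p').symm⟩
    haveI : Algebra.IsPushout A' BA A' BA := Algebra.IsPushout.symm inferInstance
    refine hpure' A' BA NA (LinearMap.id : NA →ₗ[BA] NA) t p' q (RG6.Dev.isEtaleNhd_refl A' p')
      ⟨inferInstance, IsBaseChange.ofEquiv (LinearEquiv.refl BA NA), ht, inferInstance, hq, hass, fun P' _ hP' hover => ?_⟩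
    obtain ⟨j, Q', hQ', e⟩ := hcover P' hover
    exact (hsup P').2 ⟨j, (hJ j P').1 ⟨Q', hQ', e⟩⟩ (hJq.trans hP')
  obtain ⟨g, hg, hgcov⟩ := exists_away_cover NA p' (Finset.univ.sup J)
    (Submodule.fg_finset_sup _ J fun j _ => hJfg j) hle
  refine ⟨g, hg, fun R _ _ hu h => phi_of_cover C Nc γ hγ g (fun t₀ _ hgt q₀ _ _ hass => ?_) R hu n h⟩
  obtain ⟨j, hj⟩ := (hsup q₀).1 (hgcov t₀ hgt q₀ hass)
  exact ⟨j, (hJ j q₀).2 hj⟩

/-- Representability on an étale neighbourhood of a point over which the module is pure. -/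
theorem exists_local {A B : Type u} [CommRing A] [CommRing B] [Algebra A B] [Algebra.FinitePresentation A B]
    (N : Type u) [AddCommGroup N] [Module B N] [Module A N] [IsScalarTower A B N] [Module.FinitePresentation B N]
    (p : Ideal A) [p.IsPrime] (n : ℕ)
    (hspr : ∀ (A' : Type u) [CommRing A'] [Algebra A A'] (p' : Ideal A') [p'.IsPrime],
      IsEtaleNhd A A' p p' → Spreads A B N A' p' n)
    (hflat : ∀ (R : Type u) [CommRing R] [Algebra A R], Phi A B N R 1 (n + 1)) :
    ∃ (U : Type u) (_ : CommRing U) (_ : Algebra A U), Algebra.Etale A U ∧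
      (∃ q : Ideal U, q.IsPrime ∧ q.comap (algebraMap A U) = p) ∧
      ∃ (Z : Scheme.{u}) (z : Z ⟶ Spec (CommRingCat.of U)), Mono z ∧ LocallyOfFinitePresentation z ∧ QuasiCompact z ∧
        ∀ (R : Type u) [CommRing R] [Algebra A R] [Algebra U R] [IsScalarTower A U R],
          Phi A B N R 1 n ↔ ∃ k, k ≫ z = Spec.map (CommRingCat.ofHom (algebraMap U R)) := by
  classical
  obtain ⟨A', _, _, p', _, hnb, H⟩ := Groth.Agent.S1256.result (A := A) (B := B) N p
  haveI : Algebra.Etale A A' := hnb.1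
  obtain ⟨ho, -⟩ := hnb.2
  haveI := ho
  obtain ⟨BA, NA, _, _, _, _, _, _, _, _, _, _, _, _, fA, hpo, hfA⟩ := RG6.Impure.exists_data A B N A'
  haveI := hpo
  haveI : Algebra.IsPushout A A' B BA := hpo.symm
  haveI : Algebra.FinitePresentation A' BA :=
    (inferInstance : Algebra.FinitePresentation A' (A' ⊗[A] B)).equiv (Algebra.IsPushout.equiv A A' B BA)
  haveI : Module.FinitePresentation BA NA := Module.FinitePresentation.of_equiv hfA.equiv
  obtain ⟨k, C, _, _, _, _, Nc, _, _, _, _, γ, hC, hcover⟩ := H BA NA fA hfA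
  haveI : ∀ j, Algebra.Etale BA (C j) := fun j => (hC j).1
  obtain ⟨g, hg, hgphi⟩ := hspr A' p' hnb BA NA fA hfA k C Nc γ (fun j => (hC j).2.1) hcover
  letI : ∀ j, Module A' (Nc j) := fun j => Module.compHom (Nc j) (algebraMap A' (C j))
  haveI : ∀ j, IsScalarTower A' (C j) (Nc j) := fun j => IsScalarTower.of_algebraMap_smul fun _ _ => rfl
  have hstep : ∀ j, ∃ gj : A', gj ∉ p' ∧ ∃ (Z : Scheme.{u}) (z : Z ⟶ Spec (CommRingCat.of A')),
      Mono z ∧ LocallyOfFinitePresentation z ∧ QuasiCompact z ∧ ∀ (R : Type u) [CommRing R] [Algebra A' R],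
        IsUnit (algebraMap A' R gj) → (Phi A' (C j) (Nc j) R 1 n ↔
          ∃ a : Spec (CommRingCat.of R) ⟶ Z, a ≫ z = Spec.map (CommRingCat.ofHom (algebraMap A' R))) := by
    intro j
    haveI : Algebra.FinitePresentation A' (C j) := Algebra.FinitePresentation.trans A' BA (C j)
    haveI : Module.FinitePresentation (C j) (Nc j) := Module.FinitePresentation.of_equiv (hC j).2.1.equiv
    obtain ⟨D⟩ := (hC j).2.2
    have hfl : FlatInDimGE (n + 1) A' (C j) (Nc j) :=
      (phi_iff (A := A') (B := C j) (R := A') (C := C j) (LinearMap.id : Nc j →ₗ[C j] Nc j)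
        (IsBaseChange.ofEquiv (LinearEquiv.refl (C j) (Nc j))) (g := (1 : A')) (by rw [map_one]; exact isUnit_one) (n + 1)).2
        (phi_etale_up (γ j) (hC j).2.1 A' (n + 1) ((phi_tower fA hfA A' (n + 1)).1 (hflat A')))
    obtain ⟨gj, hgj, Z, z, hm, hl, hq, -, hZ⟩ := DevFlatRep8.representable_near_prime D n hfl
    refine ⟨gj, hgj, Z, z, hm, hl, hq, fun R _ _ hu => ?_⟩
    haveI : Algebra.IsPushout A' (C j) R (R ⊗[A'] C j) := Algebra.IsPushout.symm inferInstance
    exact (phi_one_iff n).trans (hZ R (R ⊗[A'] C j) ((R ⊗[A'] C j) ⊗[C j] Nc j)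
      (TensorProduct.mk (C j) (R ⊗[A'] C j) (Nc j) 1) (TensorProduct.isBaseChange _ _ _) hu)
  choose gj hgj W w hwm hwl hwq hW using hstep
  obtain ⟨Z₁, z₁, hm₁, hl₁, hq₁, hZ₁⟩ := exists_rep_forall k W w fun j => ⟨hwm j, hwl j, hwq j⟩
  haveI := hm₁
  haveI := hl₁
  haveI := hq₁
  let G : A' := g * ∏ j, gj j
  have hG : G ∉ p' := fun h => (‹p'.IsPrime›.mem_or_mem h).elim hg fun h' => by
    obtain ⟨j, -, hj⟩ := (Ideal.IsPrime.prod_mem_iff (p := p')).1 h'
    exact hgj j hj
  let U := Localization.Away G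
  haveI : Algebra.Etale A' U := Algebra.Etale.of_isLocalizationAway G
  haveI : Algebra.Etale A U := Algebra.Etale.comp A A' U
  obtain ⟨q, hqp, hqc⟩ : ∃ q : Ideal U, q.IsPrime ∧ q.comap (algebraMap A' U) = p' := by
    have hd : Disjoint (Submonoid.powers G : Set A') (p' : Set A') := Set.disjoint_left.2 fun x ⟨i, hi⟩ hx =>
      hG (‹p'.IsPrime›.mem_of_pow_mem i (by rw [← hi] at hx; exact hx))
    exact ⟨p'.map (algebraMap A' U), IsLocalization.isPrime_of_isPrime_disjoint (Submonoid.powers G) U p' ‹_› hd,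
      IsLocalization.comap_map_of_isPrime_disjoint (Submonoid.powers G) U ‹_› hd⟩
  let c := Spec.map (CommRingCat.ofHom (algebraMap A' U))
  refine ⟨U, inferInstance, inferInstance, inferInstance, ⟨q, hqp, ?_⟩, pullback c z₁, pullback.fst c z₁,
    inferInstance, inferInstance, inferInstance, fun R _ _ _ _ => ?_⟩
  · rw [IsScalarTower.algebraMap_eq A A' U, ← Ideal.comap_comap, hqc]; exact ho.over.symm
  letI : Algebra A' R := ((algebraMap U R).comp (algebraMap A' U)).toAlgebra
  haveI : IsScalarTower A' U R := IsScalarTower.of_algebraMap_eq fun _ => rfl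
  haveI : IsScalarTower A A' R := IsScalarTower.of_algebraMap_eq fun a => by
    show _ = algebraMap U R (algebraMap A' U (algebraMap A A' a))
    rw [← IsScalarTower.algebraMap_apply A A' U, ← IsScalarTower.algebraMap_apply A U R]
  have hu : ∀ x : A', x ∣ G → IsUnit (algebraMap A' R x) := fun x hx =>
    isUnit_of_dvd_unit (map_dvd _ hx) (by
      rw [IsScalarTower.algebraMap_apply A' U R]
      exact (IsLocalization.Away.algebraMap_isUnit G).map _)
  have hx : Spec.map (CommRingCat.ofHom (algebraMap U R)) ≫ c = Spec.map (CommRingCat.ofHom (algebraMap A' R)) := by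
    rw [← Spec.map_comp, ← CommRingCat.ofHom_comp]
    rfl
  have h1 : Phi A' BA NA R 1 n ↔ ∀ j, Phi A' (C j) (Nc j) R 1 n :=
    ⟨fun h j => phi_etale_up (γ j) (hC j).2.1 R n h,
      fun h => hgphi R (hu g (dvd_mul_right _ _)) h⟩
  refine ((phi_tower (A₁ := A') fA hfA R n).trans h1).trans ?_
  have h2 : (∀ j, Phi A' (C j) (Nc j) R 1 n) ↔
      ∀ j, ∃ a : Spec (CommRingCat.of R) ⟶ W j, a ≫ w j = Spec.map (CommRingCat.ofHom (algebraMap A' R)) :=
    forall_congr' fun j => hW j R (hu _ ((Finset.dvd_prod_of_mem gj (Finset.mem_univ j)).trans (dvd_mul_left _ _)))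
  refine (h2.trans (hZ₁ _ _)).trans ?_
  rw [← hx]
  constructor
  · rintro ⟨a, ha⟩
    exact ⟨pullback.lift _ a ha.symm, pullback.lift_fst _ _ _⟩
  · rintro ⟨a, ha⟩
    exact ⟨a ≫ pullback.snd c z₁, by rw [Category.assoc, ← pullback.condition, ← Category.assoc, ha]⟩

end GrothLib.PureFlatRep8
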