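import Groth.Agent.Lib.PureFlatRep8.Stable
import Groth.Agent.Lib.FpqcRep.Basic
import Groth.Agent.Lib.SchEffective.QuasiAffine
import Groth.Agent.Lib.AlgSp.LqfDescent
import Groth.Agent.Lib.EtBasicB.OverField
import Groth.Agent.Lib.EtSite.FpqcDescent
import Mathlib.AlgebraicGeometry.Morphisms.LocalFlatDescent

/-!
# Étale descent of monomorphisms representing flatness in dimensions `≥ n`
-/

set_option autoImplicit false
set_option linter.style.haveILetI false
set_option linter.unusedSectionVars false
set_option backward.isDefEq.respectTransparency false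
set_option maxHeartbeats 800000

universe v u

open TensorProduct CategoryTheory CategoryTheory.Limits AlgebraicGeometry GrothLib.DevFlatRep8 GrothLib.RepLocal
open Desc GrothLib.SchEffective GrothLib.FpqcRep

namespace GrothLib.PureFlatRep8

theorem qcQA_of_mono {W T : Scheme.{u}} [IsAffine T] (f : W ⟶ T) [Mono f] [LocallyOfFinitePresentation f]
    [QuasiCompact f] : qcQA f := by
  refine ⟨inferInstance, (GrothLib.IndQA.indQA_iff _).mpr fun V hV U hle hU => ?_⟩
  haveI : IsAffine (V : Scheme.{u}) := hV
  haveI : CompactSpace (U : Scheme.{u}) := isCompact_iff_compactSpace.mp hU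
  haveI : FormallyUnramified f := inferInstance
  haveI : LocallyQuasiFinite f := GrothLib.EtBasicB.locallyQuasiFinite_of_unramified f
  haveI : IsSeparated (Scheme.Hom.resLE f V U hle) := by unfold Scheme.Hom.resLE; infer_instance
  haveI : LocallyOfFiniteType (Scheme.Hom.resLE f V U hle) := by unfold Scheme.Hom.resLE; infer_instance
  exact GrothLib.AlgSp.isQuasiAffine_of_lqf (Scheme.Hom.resLE f V U hle)

/-- A presheaf represented fpqc locally by quasi-affine morphisms is representable. -/
theorem exists_representing_qcQA {H : Scheme.{u}} {ι : Type u} {U : ι → Scheme.{u}} {u : ∀ i, U i ⟶ H}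
    {P : Psh.{v} H} (L : LocalRep u P) (hu : Presieve.ofArrows U u ∈ Scheme.fpqcPrecoverage H) (hP : IsGlued u P)
    (hW : ∀ i, qcQA (L.q i)) :
    ∃ (M : Over H) (m : P.obj M), ∀ (T : Over H) (x : P.obj T), ∃! a : T ⟶ M, P.map a m = x := by
  obtain ⟨M, μ, m, hm⟩ := isRep_of_isEffective (DDFull.ofArrows_mem hu) (isEffective_of_qcQA u hu L.dd hW)
  obtain ⟨mP, hmP⟩ := L.toElt_surjective hP (T := Over.mk μ) m
  refine ⟨Over.mk μ, mP, fun T x => ?_⟩
  have key : ∀ a : T ⟶ Over.mk μ, P.map a mP = x ↔ IsRes m a.left (L.toElt x) := by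
    intro a
    constructor
    · intro e
      rw [← e, L.toElt_map, hmP]
      exact m.isRes_res a.left (Over.w a)
    · intro e
      apply L.toElt_injective hP
      rw [L.toElt_map, hmP]
      exact e.eq.symm
  obtain ⟨g, hg, huniq⟩ := hm T.hom (L.toElt x)
  exact ⟨Over.homMk g hg.1, (key _).2 hg, fun a ha => Over.OverMorphism.ext (huniq _ ((key a).1 ha))⟩

theorem mem_fpqc_of_etale {H : Scheme.{u}} {ι : Type u} (U : ι → Scheme.{u}) (u : ∀ i, U i ⟶ H)
    (het : ∀ i, Etale (u i)) (hsurj : ∀ y : H, ∃ i x, u i x = y) :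
    Presieve.ofArrows U u ∈ Scheme.fpqcPrecoverage H := by
  let 𝒰 : H.Cover (Scheme.precoverage @Flat) :=
    { I₀ := ι
      X := U
      f := u
      mem₀ := by
        rw [Scheme.presieve₀_mem_precoverage_iff]
        exact ⟨hsurj, fun i => by haveI := het i; exact (inferInstance : Flat (u i))⟩ }
  haveI : QuasiCompactCover 𝒰.toPreZeroHypercover := QuasiCompactCover.of_isOpenMap fun i => by
    haveI := het i
    exact (u i).isOpenMap
  exact ⟨Scheme.presieve₀_mem_qcPrecoverage_iff.2 ‹_›, 𝒰.mem₀⟩

section Glue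

variable {A B : Type u} [CommRing A] [CommRing B] [Algebra A B] [Algebra.FinitePresentation A B]
  (N : Type u) [AddCommGroup N] [Module B N] [Module A N] [IsScalarTower A B N]

/-- The subfunctor where the module is flat in dimensions `≥ n`. -/
def phiPsh (n : ℕ) {H : Scheme.{u}} (i₀ : H ⟶ Spec (CommRingCat.of A)) : Psh.{0} H where
  obj T := PLift (∀ (R : Type u) [CommRing R] [Algebra A R] (x : Spec (CommRingCat.of R) ⟶ T.left),
    x ≫ T.hom ≫ i₀ = Spec.map (CommRingCat.ofHom (algebraMap A R)) → Phi A B N R 1 n)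
  map := fun {T T'} f p => ⟨fun R _ _ x hx => p.down R (x ≫ f.left) (by
    rw [Category.assoc, ← Category.assoc f.left, Over.w f]; exact hx)⟩
  map_id _ _ := rfl
  map_comp _ _ _ := rfl

variable (n : ℕ) {H : Scheme.{u}} (i₀ : H ⟶ Spec (CommRingCat.of A))

theorem phiPsh_ext {T : Over H} (a b : (phiPsh N n i₀ (B := B)).obj T) : a = b := by
  cases a; cases b; rfl

theorem isGlued_phiPsh {ι : Type u} {U : ι → Scheme.{u}} (u : ∀ i, U i ⟶ H) (het : ∀ i, Etale (u i))
    (hsurj : ∀ y : H, ∃ i x, u i x = y) : IsGlued u (phiPsh (A := A) (B := B) N n i₀) := by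
  intro T a _
  refine ⟨⟨fun R _ _ x hx => phi_descent R n fun t _ => ?_⟩, fun i => phiPsh_ext N n i₀ _ _, fun y _ => phiPsh_ext N n i₀ _ _⟩
  let pt : Spec (CommRingCat.of R) := (⟨t, inferInstance⟩ : PrimeSpectrum R)
  obtain ⟨k, z, hz⟩ := hsurj (T.hom (x pt))
  obtain ⟨v, -, hv⟩ := Scheme.Pullback.exists_preimage_pullback (f := u k) (g := T.hom) z (x pt) hz
  let q : pullback (u k) T.hom ⟶ T.left := pullback.snd (u k) T.hom
  haveI := het k
  haveI : Etale q := MorphismProperty.pullback_snd (P := @Etale) _ _ inferInstance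
  obtain ⟨w, hw, -⟩ := Scheme.Pullback.exists_preimage_pullback (f := x) (g := q) pt v hv.symm
  obtain ⟨_, ⟨W, hW, rfl⟩, hwW, -⟩ :=
    (pullback x q).isBasis_affineOpens.exists_subset_of_mem_open (Set.mem_univ w) isOpen_univ
  let R' : Type u := Γ(pullback x q, W)
  let j : Spec (CommRingCat.of R') ⟶ Spec (CommRingCat.of R) := hW.fromSpec ≫ pullback.fst x q
  haveI : Etale (pullback.fst x q) := MorphismProperty.pullback_fst (P := @Etale) _ _ inferInstance
  haveI : IsOpenImmersion hW.fromSpec := hW.isOpenImmersion_fromSpec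
  have hj : Etale j := MorphismProperty.comp_mem @Etale _ _ inferInstance inferInstance
  let φ := Spec.preimage j
  have hφ : Spec.map φ = j := Spec.map_preimage j
  letI : Algebra R R' := φ.hom.toAlgebra
  letI : Algebra A R' := ((algebraMap R R').comp (algebraMap A R)).toAlgebra
  haveI : IsScalarTower A R R' := IsScalarTower.of_algebraMap_eq fun _ => rfl
  have het' : Algebra.Etale R R' := by
    rw [← hφ, HasRingHomProperty.Spec_iff (P := @Etale)] at hj
    exact RingHom.etale_algebraMap.1 hj
  let t' := hW.primeIdealOf ⟨w, hwW⟩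
  have ht' : j t' = pt := by
    show (hW.fromSpec ≫ pullback.fst x q) t' = pt
    rw [Scheme.Hom.comp_apply, hW.fromSpec_primeIdealOf]; exact hw
  refine ⟨R', inferInstance, inferInstance, inferInstance, inferInstance, t'.asIdeal, t'.isPrime, het', ⟨?_⟩, ?_⟩
  · rw [← hφ] at ht'
    exact (congrArg PrimeSpectrum.asIdeal ht').symm
  · refine (a k).down R' (hW.fromSpec ≫ pullback.snd x q) ?_
    have h1 : (hW.fromSpec ≫ pullback.snd x q) ≫ q = j ≫ x := by
      rw [Category.assoc, ← pullback.condition]; exact (Category.assoc _ _ _).symm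
    show (hW.fromSpec ≫ pullback.snd x q) ≫ (pullback.fst (u k) T.hom ≫ u k) ≫ i₀ = _
    rw [pullback.condition]
    show (hW.fromSpec ≫ pullback.snd x q) ≫ (q ≫ T.hom) ≫ i₀ = _
    refine (show (hW.fromSpec ≫ pullback.snd x q) ≫ (q ≫ T.hom) ≫ i₀ =
      ((hW.fromSpec ≫ pullback.snd x q) ≫ q) ≫ T.hom ≫ i₀ by simp only [Category.assoc]).trans ?_
    rw [h1, Category.assoc, hx, ← hφ, ← Spec.map_comp]
    rfl

/-- Flatness in dimensions `≥ n` is represented by a monomorphism when it is so étale locally. -/
theorem exists_rep_of_etale_cover [Mono i₀] {ι : Type u} (U : ι → Type u) [∀ k, CommRing (U k)] [∀ k, Algebra A (U k)]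
    (u : ∀ k, Spec (CommRingCat.of (U k)) ⟶ H) (hu : ∀ k, u k ≫ i₀ = Spec.map (CommRingCat.ofHom (algebraMap A (U k))))
    (het : ∀ k, Etale (u k)) (hsurj : ∀ y : H, ∃ k x, u k x = y)
    (hloc : ∀ k, ∃ (Z : Scheme.{u}) (z : Z ⟶ Spec (CommRingCat.of (U k))), Mono z ∧ LocallyOfFinitePresentation z ∧
      QuasiCompact z ∧ ∀ (R : Type u) [CommRing R] [Algebra A R] [Algebra (U k) R] [IsScalarTower A (U k) R],
        Phi A B N R 1 n ↔ ∃ a, a ≫ z = Spec.map (CommRingCat.ofHom (algebraMap (U k) R))) :
    ∃ (M : Scheme.{u}) (m : M ⟶ H), Mono m ∧ LocallyOfFinitePresentation m ∧ QuasiCompact m ∧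
      ∀ (R : Type u) [CommRing R] [Algebra A R] (x : Spec (CommRingCat.of R) ⟶ H),
        x ≫ i₀ = Spec.map (CommRingCat.ofHom (algebraMap A R)) → (Phi A B N R 1 n ↔ ∃ a, a ≫ m = x) := by
  choose Z z hzm hzl hzq hZ using hloc
  let P := phiPsh (A := A) (B := B) N n i₀
  have hn : ∀ k, ∀ (R : Type u) [CommRing R] [Algebra A R] (x : Spec (CommRingCat.of R) ⟶ Z k),
      x ≫ (z k ≫ u k) ≫ i₀ = Spec.map (CommRingCat.ofHom (algebraMap A R)) → Phi A B N R 1 n := by
    intro k R _ _ x hx
    let φ := Spec.preimage (x ≫ z k)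
    letI : Algebra (U k) R := φ.hom.toAlgebra
    have hφ : Spec.map (CommRingCat.ofHom (algebraMap (U k) R)) = x ≫ z k := Spec.map_preimage _
    haveI : IsScalarTower A (U k) R := IsScalarTower.of_algebraMap_eq' (by
      have h1 : Spec.map (CommRingCat.ofHom (algebraMap A R)) =
          Spec.map (CommRingCat.ofHom ((algebraMap (U k) R).comp (algebraMap A (U k)))) := by
        rw [CommRingCat.ofHom_comp, Spec.map_comp, hφ, ← hu k, ← hx]
        simp only [Category.assoc]
      exact congrArg CommRingCat.Hom.hom (Spec.map_injective h1))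
    exact (hZ k R).2 ⟨x, hφ.symm⟩
  let L : LocalRep u P :=
    { W := fun k => Over.mk (z k ≫ u k)
      q := fun k => z k
      hq := fun k => rfl
      n := fun k => ⟨fun R _ _ x hx => hn k R x hx⟩
      existsUnique := fun k T s hs p => by
        haveI := hzm k
        have hloc : ∀ c : T.left.affineOpenCover.I₀, ∃ a : Spec (T.left.affineOpenCover.X c) ⟶ Z k,
            a ≫ z k = T.left.affineOpenCover.f c ≫ s := by
          intro c
          let R : Type u := T.left.affineOpenCover.X c
          let y : Spec (CommRingCat.of R) ⟶ Spec (CommRingCat.of (U k)) := T.left.affineOpenCover.f c ≫ s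
          letI : Algebra (U k) R := (Spec.preimage y).hom.toAlgebra
          letI : Algebra A R := ((algebraMap (U k) R).comp (algebraMap A (U k))).toAlgebra
          haveI : IsScalarTower A (U k) R := IsScalarTower.of_algebraMap_eq fun _ => rfl
          have hy : Spec.map (CommRingCat.ofHom (algebraMap (U k) R)) = y := Spec.map_preimage _
          obtain ⟨a, ha⟩ := (hZ k R).1 (p.down R (T.left.affineOpenCover.f c) (by
            rw [← hs]
            show T.left.affineOpenCover.f c ≫ (s ≫ u k) ≫ i₀ = Spec.map (CommRingCat.ofHom ((algebraMap (U k) R).comp (algebraMap A (U k))))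
            rw [CommRingCat.ofHom_comp, Spec.map_comp, hy, ← hu k]
            simp only [y, Category.assoc]))
          exact ⟨a, ha.trans hy⟩
        choose a ha using hloc
        let 𝒱 := T.left.affineOpenCover.openCover
        let b : T.left ⟶ Z k := 𝒱.glueMorphisms a fun c c' => by
          rw [← cancel_mono (z k), Category.assoc, Category.assoc, ha, ha]
          exact pullback.condition_assoc s
        have hb : b ≫ z k = s := 𝒱.hom_ext _ _ fun c => by
          rw [← Category.assoc, 𝒱.ι_glueMorphisms]; exact ha c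
        refine ⟨Over.homMk b (by show b ≫ z k ≫ u k = T.hom; rw [← Category.assoc, hb, hs]), ⟨hb, phiPsh_ext N n i₀ _ _⟩,
          fun a' h => Over.OverMorphism.ext ?_⟩
        rw [← cancel_mono (z k)]
        exact h.1.trans hb.symm }
  have hcov := mem_fpqc_of_etale _ u het hsurj
  obtain ⟨M, m, hM⟩ := exists_representing_qcQA L hcov (isGlued_phiPsh N n i₀ u het hsurj) fun k => by
    haveI := hzm k; haveI := hzl k; haveI := hzq k
    exact qcQA_of_mono (z k)
  refine ⟨M.left, M.hom, ⟨fun {X} a b hab => ?_⟩, L.property hcov @LocallyOfFinitePresentation hM hzl,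
    (haveI := GrothLib.EtSite.descendsAlong_quasiCompact.{u}; L.property hcov @QuasiCompact hM hzq), fun R _ _ x hx => ⟨fun h => ?_, ?_⟩⟩
  · let T : Over H := Over.mk (a ≫ M.hom)
    let f : T ⟶ M := Over.homMk a rfl
    let g : T ⟶ M := Over.homMk b hab.symm
    exact congrArg CommaMorphism.left ((hM T (P.map f m)).unique (y₁ := f) (y₂ := g) rfl (phiPsh_ext N n i₀ _ _))
  · have hp : P.obj (Over.mk x) := ⟨fun R' _ _ y hy => by
      let ψ := Spec.preimage (S := CommRingCat.of R') y
      letI : Algebra R R' := ψ.hom.toAlgebra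
      haveI : IsScalarTower A R R' := IsScalarTower.of_algebraMap_eq' (by
        have hψ : Spec.map (CommRingCat.ofHom (algebraMap R R')) = y := Spec.map_preimage _
        have h1 : Spec.map (CommRingCat.ofHom (algebraMap A R')) =
            Spec.map (CommRingCat.ofHom ((algebraMap R R').comp (algebraMap A R))) := by
          rw [CommRingCat.ofHom_comp, Spec.map_comp, hψ, ← hx]
          exact hy.symm
        exact congrArg CommRingCat.Hom.hom (Spec.map_injective h1))
      exact phi_mono n h⟩
    obtain ⟨a, -, -⟩ := hM (Over.mk x) hp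
    exact ⟨a.left, Over.w a⟩
  · rintro ⟨a, ha⟩
    exact m.down R a (by rw [← Category.assoc, ha]; exact hx)

end Glue

end GrothLib.PureFlatRep8
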