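import Groth.Agent.Lib.PureFlatRep8.Main

/-!
# Spreading from an étale equivalence relation with specialisations
-/

set_option autoImplicit false
set_option linter.style.haveILetI false
set_option linter.unusedSectionVars false
set_option backward.isDefEq.respectTransparency false
set_option maxHeartbeats 1600000

universe u

open TensorProduct FlatCA GrothLib.DevFlatRep8 GrothLib.RelAss13

namespace GrothLib.PureFlatRep8

attribute [local instance] Algebra.TensorProduct.rightAlgebra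

/-- An étale overlap of two charts through which every point of a fibre specialises to every nearer fibre. -/
def Linked (A : Type u) [CommRing A] (B B₂ : Type u) [CommRing B] [CommRing B₂] [Algebra A B] [Algebra A B₂]
    (N N₂ : Type u) [AddCommGroup N] [Module B N] [AddCommGroup N₂] [Module B₂ N₂] : Prop :=
  ∃ (D : Type u) (_ : CommRing D) (_ : Algebra A D) (_ : Algebra B D) (_ : Algebra B₂ D) (_ : IsScalarTower A B D)
    (_ : IsScalarTower A B₂ D) (ND : Type u) (_ : AddCommGroup ND) (_ : Module D ND) (_ : Module B ND)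
    (_ : IsScalarTower B D ND) (_ : Module B₂ ND) (_ : IsScalarTower B₂ D ND) (γ : N →ₗ[B] ND) (γ₂ : N₂ →ₗ[B₂] ND),
    Algebra.Etale B D ∧ Algebra.Etale B₂ D ∧ IsBaseChange D γ ∧ IsBaseChange D γ₂ ∧
    ∀ (R : Type u) [CommRing R] [Algebra A R] (t p : Ideal R) [t.IsPrime] [p.IsPrime], t ≤ p →
      ∀ (K : Type u) [Field K] [Algebra A K] (σ : R →ₐ[A] K) (a : B →ₐ[A] K), RingHom.ker σ.toRingHom = t →
        ∃ (L : Type u) (_ : Field L) (_ : Algebra A L) (e : K →ₐ[A] L) (c : D →ₐ[A] L),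
          (∀ x : B, c (algebraMap B D x) = e (a x)) ∧
          ∃ P' : Ideal (R ⊗[A] B₂), P'.IsPrime ∧ P'.LiesOver p ∧
            RingHom.ker (Algebra.TensorProduct.lift (e.comp σ) (c.comp (IsScalarTower.toAlgHom A B₂ D))
              (fun _ _ => mul_comm _ _)).toRingHom ≤ P'

theorem exists_delta {A A' B BA B₂ BA₂ D DA : Type u} [CommRing A] [CommRing A'] [CommRing B] [CommRing BA]
    [CommRing B₂] [CommRing BA₂] [CommRing D] [CommRing DA] [Algebra A A'] [Algebra A B] [Algebra A BA] [Algebra A B₂]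
    [Algebra A BA₂] [Algebra A D] [Algebra A DA] [Algebra B BA] [Algebra A' BA] [Algebra B₂ BA₂] [Algebra A' BA₂]
    [Algebra B D] [Algebra B₂ D] [Algebra D DA] [Algebra A' DA] [Algebra BA DA] [Algebra B DA] [Algebra B₂ DA]
    [Algebra BA₂ DA] [IsScalarTower A B BA] [IsScalarTower A A' BA] [IsScalarTower A B₂ BA₂] [IsScalarTower A A' BA₂]
    [IsScalarTower A B D] [IsScalarTower A B₂ D] [IsScalarTower A D DA] [IsScalarTower A A' DA] [IsScalarTower A BA DA]
    [IsScalarTower A BA₂ DA] [IsScalarTower B BA DA] [IsScalarTower B D DA] [IsScalarTower A' BA DA]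
    [IsScalarTower A' BA₂ DA] [IsScalarTower B₂ BA₂ DA] [IsScalarTower B₂ D DA]
    [Algebra.IsPushout A B A' BA] [Algebra.IsPushout A B₂ A' BA₂] [Algebra.IsPushout A D A' DA]
    (p' : Ideal A') [p'.IsPrime] {K L : Type u} [Field K] [Field L] [Algebra A K] [Algebra A L]
    [Algebra A' K] [Algebra BA K] [IsScalarTower A A' K] [IsScalarTower A BA K] [IsScalarTower A' BA K]
    (σ : A' →ₐ[A] K) (hσ' : ∀ x, σ x = algebraMap A' K x)
    (a : B →ₐ[A] K) (ha : ∀ x, a x = algebraMap BA K (algebraMap B BA x))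
    (q : Ideal BA) (hq0 : ∀ x, algebraMap BA K x = 0 ↔ x ∈ q) (e : K →ₐ[A] L) (c : D →ₐ[A] L)
    (hc : ∀ x : B, c (algebraMap B D x) = e (a x)) (P' : Ideal (A' ⊗[A] B₂)) [hP' : P'.IsPrime]
    (hP'p : P'.LiesOver p')
    (hker : RingHom.ker (Algebra.TensorProduct.lift (e.comp σ) (c.comp (IsScalarTower.toAlgHom A B₂ D))
      (fun _ _ => mul_comm _ _)).toRingHom ≤ P') :
    ∃ (δp : Ideal DA) (_ : δp.IsPrime) (P₂ : Ideal BA₂) (_ : P₂.IsPrime),
      δp.comap (algebraMap BA DA) = q ∧ P₂.LiesOver p' ∧ δp.comap (algebraMap BA₂ DA) ≤ P₂ := by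
  let ψ : DA →ₐ[A] L := Algebra.pushoutDesc (R := A) (R' := A') DA c (e.comp σ) fun _ _ => Commute.all _ _
  let δp : Ideal DA := RingHom.ker ψ.toRingHom
  haveI : δp.IsPrime := RingHom.ker_isPrime _
  have h1 : δp.comap (algebraMap BA DA) = q := by
    have heq : ψ.comp (IsScalarTower.toAlgHom A BA DA) = e.comp (IsScalarTower.toAlgHom A BA K) := by
      refine Algebra.IsPushout.algHom_ext (R := A) (S := B) (R' := A') (S' := BA) (A := L) ?_ ?_
      · ext x
        show ψ (algebraMap BA DA (algebraMap A' BA x)) = e (algebraMap BA K (algebraMap A' BA x))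
        rw [← IsScalarTower.algebraMap_apply A' BA DA, Algebra.pushoutDesc_right,
          ← IsScalarTower.algebraMap_apply A' BA K, AlgHom.comp_apply, hσ']
      · ext x
        show ψ (algebraMap BA DA (algebraMap B BA x)) = e (algebraMap BA K (algebraMap B BA x))
        rw [← ha, ← IsScalarTower.algebraMap_apply B BA DA, IsScalarTower.algebraMap_apply B D DA,
          Algebra.pushoutDesc_left, hc]
    ext x
    show ψ (algebraMap BA DA x) = 0 ↔ x ∈ q
    rw [show ψ (algebraMap BA DA x) = e (algebraMap BA K x) from DFunLike.congr_fun heq x,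
      map_eq_zero, hq0]
  let q₂ : Ideal BA₂ := δp.comap (algebraMap BA₂ DA)
  haveI : Algebra.IsPushout A A' B₂ BA₂ := Algebra.IsPushout.symm ‹Algebra.IsPushout A B₂ A' BA₂›
  let E := Algebra.IsPushout.equiv A A' B₂ BA₂
  let P₂ : Ideal BA₂ := P'.comap E.symm.toAlgHom.toRingHom
  haveI : P₂.IsPrime := Ideal.IsPrime.comap _
  haveI : P₂.LiesOver p' := ⟨by
    ext x
    show x ∈ p' ↔ E.symm (algebraMap A' BA₂ x) ∈ P'
    rw [AlgEquiv.commutes]
    exact SetLike.ext_iff.1 hP'p.over x⟩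
  have hle : q₂ ≤ P₂ := fun x hx => by
    obtain ⟨z, rfl⟩ := E.surjective x
    show E.symm (E z) ∈ P'
    rw [AlgEquiv.symm_apply_apply]
    refine hker ?_
    have heq : (ψ.comp (IsScalarTower.toAlgHom A BA₂ DA)).comp (E.toAlgHom.restrictScalars A) =
        Algebra.TensorProduct.lift (e.comp σ) (c.comp (IsScalarTower.toAlgHom A B₂ D)) (fun _ _ => mul_comm _ _) := by
      refine Algebra.TensorProduct.ext' fun r b => ?_
      show ψ (algebraMap BA₂ DA (E (r ⊗ₜ b))) = _
      rw [Algebra.TensorProduct.lift_tmul, show E (r ⊗ₜ b) = algebraMap A' BA₂ r * algebraMap B₂ BA₂ b by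
        simp [E, Algebra.IsPushout.equiv_tmul], map_mul, map_mul, ← IsScalarTower.algebraMap_apply A' BA₂ DA,
        ← IsScalarTower.algebraMap_apply B₂ BA₂ DA, IsScalarTower.algebraMap_apply B₂ D DA,
        Algebra.pushoutDesc_right, Algebra.pushoutDesc_left]
      rfl
    show _ = (0 : L)
    rw [← heq]
    exact hx
  exact ⟨δp, inferInstance, P₂, inferInstance, h1, inferInstance, hle⟩

theorem phi_transfer {A' BA₂ DA C : Type u} [CommRing A'] [CommRing BA₂] [CommRing DA] [CommRing C] [Algebra A' BA₂]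
    [Algebra A' DA] [Algebra BA₂ DA] [IsScalarTower A' BA₂ DA] [Algebra BA₂ C] [Algebra A' C] [IsScalarTower A' BA₂ C]
    [Algebra.Etale BA₂ DA] {NA₂ NDA Nc : Type u} [AddCommGroup NA₂] [Module BA₂ NA₂] [AddCommGroup NDA] [Module DA NDA]
    [Module BA₂ NDA] [IsScalarTower BA₂ DA NDA] [AddCommGroup Nc] [Module C Nc] [Module BA₂ Nc] [IsScalarTower BA₂ C Nc]
    (d₂ : NA₂ →ₗ[BA₂] NDA) (hd₂ : IsBaseChange DA d₂) (γ : NA₂ →ₗ[BA₂] Nc) (hγ : IsBaseChange C γ)
    (R : Type u) [CommRing R] [Algebra A' R] (n : ℕ) (h : Phi A' C Nc R 1 n) :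
    Phi A' (DA ⊗[BA₂] C) ((DA ⊗[BA₂] C) ⊗[DA] NDA) R 1 n := by
  let C' := DA ⊗[BA₂] C
  let NC := C' ⊗[DA] NDA
  haveI : Algebra.IsPushout BA₂ DA C C' := inferInstance
  haveI : Algebra.IsPushout BA₂ C DA C' := Algebra.IsPushout.symm inferInstance
  haveI : Algebra.Etale C C' := Algebra.Etale.of_equiv (Algebra.IsPushout.equiv BA₂ C DA C')
  haveI : IsScalarTower A' C C' := IsScalarTower.of_algebraMap_eq fun x => by
    rw [IsScalarTower.algebraMap_apply A' BA₂ C, ← IsScalarTower.algebraMap_apply BA₂ C C',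
      IsScalarTower.algebraMap_apply BA₂ DA C', ← IsScalarTower.algebraMap_apply A' BA₂ DA,
      ← IsScalarTower.algebraMap_apply A' DA C']
  haveI : IsScalarTower BA₂ DA NC := IsScalarTower.of_algebraMap_smul fun b x => by
    induction x using TensorProduct.induction_on with
    | zero => simp
    | add x y hx hy => simp only [smul_add, hx, hy]
    | tmul c m => rw [smul_tmul', smul_tmul', algebraMap_smul]
  letI : Module C NC := Module.compHom NC (algebraMap C C')
  haveI : IsScalarTower C C' NC := IsScalarTower.of_algebraMap_smul fun _ _ => rfl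
  haveI : IsScalarTower BA₂ C NC := IsScalarTower.of_algebraMap_smul fun b x => by
    show algebraMap C C' (algebraMap BA₂ C b) • x = b • x
    rw [← IsScalarTower.algebraMap_apply BA₂ C C', IsScalarTower.algebraMap_apply BA₂ DA C',
      algebraMap_smul, algebraMap_smul]
  let qj : NA₂ →ₗ[BA₂] NC := (TensorProduct.mk DA C' NDA 1).restrictScalars BA₂ ∘ₗ d₂
  have hqj : IsBaseChange C' qj := hd₂.comp (TensorProduct.isBaseChange DA NDA C')
  exact phi_etale_up (hγ.lift qj) (IsBaseChange.of_comp hγ (by rw [IsBaseChange.lift_comp]; exact hqj)) R n h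

set_option maxHeartbeats 800000 in
theorem spread_of_delta {A' BA BA₂ DA : Type u} [CommRing A'] [CommRing BA] [CommRing BA₂] [CommRing DA]
    [Algebra A' BA] [Algebra A' BA₂] [Algebra A' DA] [Algebra BA DA] [Algebra BA₂ DA] [IsScalarTower A' BA DA]
    [IsScalarTower A' BA₂ DA] [Algebra.Etale BA DA] [Algebra.Etale BA₂ DA] [Algebra.FinitePresentation A' BA]
    {NA NA₂ NDA : Type u} [AddCommGroup NA] [Module BA NA] [Module.FinitePresentation BA NA] [Module A' NA]
    [IsScalarTower A' BA NA] [AddCommGroup NA₂] [Module BA₂ NA₂] [AddCommGroup NDA] [Module DA NDA] [Module BA NDA]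
    [IsScalarTower BA DA NDA] [Module BA₂ NDA] [IsScalarTower BA₂ DA NDA]
    (d₁ : NA →ₗ[BA] NDA) (hd₁ : IsBaseChange DA d₁) (d₂ : NA₂ →ₗ[BA₂] NDA) (hd₂ : IsBaseChange DA d₂)
    (p' : Ideal A') [p'.IsPrime] (n : ℕ)
    {k : ℕ} (C : Fin k → Type u) [∀ j, CommRing (C j)] [∀ j, Algebra BA₂ (C j)] [∀ j, Algebra A' (C j)]
    [∀ j, IsScalarTower A' BA₂ (C j)] [∀ j, Algebra.Etale BA₂ (C j)]
    (Nc : Fin k → Type u) [∀ j, AddCommGroup (Nc j)] [∀ j, Module (C j) (Nc j)] [∀ j, Module BA₂ (Nc j)]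
    [∀ j, IsScalarTower BA₂ (C j) (Nc j)] (γ : ∀ j, NA₂ →ₗ[BA₂] Nc j) (hγ : ∀ j, IsBaseChange (C j) (γ j))
    (hcover : ∀ (Q : Ideal BA₂) [Q.IsPrime], Q.LiesOver p' →
      ∃ (j : Fin k) (Q' : Ideal (C j)), Q'.IsPrime ∧ Q'.comap (algebraMap BA₂ (C j)) = Q)
    (hdelta : ∀ (t : Ideal A') [t.IsPrime], t ≤ p' → ∀ (q : Ideal BA) [q.IsPrime] [q.LiesOver t],
      ∃ (δp : Ideal DA) (_ : δp.IsPrime) (P₂ : Ideal BA₂) (_ : P₂.IsPrime),
        δp.comap (algebraMap BA DA) = q ∧ P₂.LiesOver p' ∧ δp.comap (algebraMap BA₂ DA) ≤ P₂) :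
    ∃ g : A', g ∉ p' ∧ ∀ (R : Type u) [CommRing R] [Algebra A' R], IsUnit (algebraMap A' R g) →
      (∀ j, Phi A' (C j) (Nc j) R 1 n) → Phi A' BA NA R 1 n := by
  classical
  let C' : Fin k → Type u := fun j => DA ⊗[BA₂] C j
  haveI : ∀ j, IsScalarTower BA DA (C' j) := fun j => inferInstanceAs (IsScalarTower BA DA (DA ⊗[BA₂] C j))
  haveI : ∀ j, Algebra.Etale BA (C' j) := fun j => Algebra.Etale.comp BA DA (C' j)
  let NC : Fin k → Type u := fun j => C' j ⊗[DA] NDA
  have hcov' : ∀ (t : Ideal A') [t.IsPrime], t ≤ p' → ∀ (q : Ideal BA) [q.IsPrime] [q.LiesOver t],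
      ∃ (j : Fin k) (m : Ideal (C' j)), m.IsPrime ∧ m.comap (algebraMap BA (C' j)) = q := by
    intro t _ ht q _ hq
    obtain ⟨δp, _, P₂, _, h1, hP₂, hle⟩ := hdelta t ht q
    haveI := hP₂
    let q₂ : Ideal BA₂ := δp.comap (algebraMap BA₂ DA)
    obtain ⟨j, Q', hQ', e'⟩ := hcover P₂ inferInstance
    obtain ⟨J, -, hJ⟩ := exists_image_ideal (B := BA₂) (C := C j)
    obtain ⟨m, _, hm⟩ := (hJ q₂).2 fun h => (hJ P₂).1 ⟨Q', hQ', e'⟩ (h.trans hle)
    haveI : Algebra.IsPushout BA₂ DA (C j) (C' j) := inferInstanceAs (Algebra.IsPushout BA₂ DA (C j) (DA ⊗[BA₂] C j))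
    obtain ⟨M, hM, hM1, -⟩ := FlatDescent8.exists_prime_over (R := BA₂) (S := DA) (R' := C j) (S' := C' j) δp m hm.symm
    exact ⟨j, M, hM, by rw [IsScalarTower.algebraMap_eq BA DA (C' j), ← Ideal.comap_comap, hM1, h1]⟩
  choose J hJfg hJ using fun j => exists_image_ideal (B := BA) (C := C' j)
  have hsup : ∀ m : Ideal BA, ¬ Finset.univ.sup J ≤ m ↔ ∃ j, ¬ J j ≤ m := fun m => by
    rw [Finset.sup_le_iff]; push Not; simp
  have hle : ∀ (t : Ideal A') [t.IsPrime], t ≤ p' → KillFree NA (Finset.univ.sup J) t := by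
    intro t _ ht
    rw [killFree_iff]
    intro q _ _ _ hJq
    obtain ⟨j, m, hm, e⟩ := hcov' t ht q
    exact (hsup q).2 ⟨j, (hJ j q).1 ⟨m, hm, e⟩⟩ hJq
  obtain ⟨g, hg, hgcov⟩ := exists_away_cover NA p' (Finset.univ.sup J)
    (Submodule.fg_finset_sup _ J fun j _ => hJfg j) hle
  haveI : ∀ j, IsScalarTower BA DA (NC j) := fun j => inferInstanceAs (IsScalarTower BA DA (C' j ⊗[DA] NDA))
  refine ⟨g, hg, fun R _ _ hu h => phi_of_cover C' NC
    (fun j => (TensorProduct.mk DA (C' j) NDA 1).restrictScalars BA ∘ₗ d₁)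
    (fun j => hd₁.comp (TensorProduct.isBaseChange DA NDA (C' j))) g (fun t₀ _ hgt q₀ _ _ hass => ?_) R hu n fun j => ?_⟩
  · obtain ⟨j, hj⟩ := (hsup q₀).1 (hgcov t₀ hgt q₀ hass)
    exact ⟨j, (hJ j q₀).2 hj⟩
  exact phi_transfer (BA₂ := BA₂) (DA := DA) (NDA := NDA) (C := C j) d₂ hd₂ (γ j) (hγ j) R n (h j)

set_option maxHeartbeats 1600000 in
theorem exists_spread_of_linked {A B B₂ : Type u} [CommRing A] [CommRing B] [CommRing B₂] [Algebra A B] [Algebra A B₂]
    [Algebra.FinitePresentation A B]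
    {N N₂ : Type u} [AddCommGroup N] [Module B N] [Module.FinitePresentation B N] [AddCommGroup N₂] [Module B₂ N₂]
    (hL : Linked A B B₂ N N₂) {A' : Type u} [CommRing A'] [Algebra A A'] (p' : Ideal A') [p'.IsPrime] (n : ℕ)
    {BA NA : Type u} [CommRing BA] [Algebra B BA] [Algebra A' BA] [Algebra A BA] [IsScalarTower A B BA]
    [IsScalarTower A A' BA] [Algebra.IsPushout A B A' BA] [AddCommGroup NA] [Module BA NA] [Module B NA]
    [IsScalarTower B BA NA] (fA : N →ₗ[B] NA) (hfA : IsBaseChange BA fA)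
    {BA₂ NA₂ : Type u} [CommRing BA₂] [Algebra B₂ BA₂] [Algebra A' BA₂] [Algebra A BA₂] [IsScalarTower A B₂ BA₂]
    [IsScalarTower A A' BA₂] [Algebra.IsPushout A B₂ A' BA₂] [AddCommGroup NA₂] [Module BA₂ NA₂] [Module B₂ NA₂]
    [IsScalarTower B₂ BA₂ NA₂] (fA₂ : N₂ →ₗ[B₂] NA₂) (hfA₂ : IsBaseChange BA₂ fA₂)
    {k : ℕ} (C : Fin k → Type u) [∀ j, CommRing (C j)] [∀ j, Algebra BA₂ (C j)] [∀ j, Algebra A' (C j)]
    [∀ j, IsScalarTower A' BA₂ (C j)] [∀ j, Algebra.Etale BA₂ (C j)]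
    (Nc : Fin k → Type u) [∀ j, AddCommGroup (Nc j)] [∀ j, Module (C j) (Nc j)] [∀ j, Module BA₂ (Nc j)]
    [∀ j, IsScalarTower BA₂ (C j) (Nc j)] (γ : ∀ j, NA₂ →ₗ[BA₂] Nc j) (hγ : ∀ j, IsBaseChange (C j) (γ j))
    (hcover : ∀ (Q : Ideal BA₂) [Q.IsPrime], Q.LiesOver p' →
      ∃ (j : Fin k) (Q' : Ideal (C j)), Q'.IsPrime ∧ Q'.comap (algebraMap BA₂ (C j)) = Q) :
    ∃ g : A', g ∉ p' ∧ ∀ (R : Type u) [CommRing R] [Algebra A' R], IsUnit (algebraMap A' R g) →
      (∀ j, Phi A' (C j) (Nc j) R 1 n) → Phi A' BA NA R 1 n := by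
  classical
  obtain ⟨D, _, _, _, _, _, _, ND, _, _, _, _, _, _, δ, δ₂, _, _, hδ, hδ₂, hspec⟩ := hL
  haveI : Algebra.IsPushout A A' B BA := Algebra.IsPushout.symm ‹Algebra.IsPushout A B A' BA›
  haveI : Algebra.FinitePresentation A' BA :=
    (inferInstance : Algebra.FinitePresentation A' (A' ⊗[A] B)).equiv (Algebra.IsPushout.equiv A A' B BA)
  haveI : Module.FinitePresentation BA NA := Module.FinitePresentation.of_equiv hfA.equiv
  letI : Module A' NA := Module.compHom NA (algebraMap A' BA)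
  haveI : IsScalarTower A' BA NA := IsScalarTower.of_algebraMap_smul fun _ _ => rfl
  let DA := BA ⊗[B] D
  haveI : IsScalarTower A D DA := IsScalarTower.of_algebraMap_eq fun a => by
    rw [IsScalarTower.algebraMap_apply A B D, ← IsScalarTower.algebraMap_apply B D DA,
      IsScalarTower.algebraMap_apply B BA DA, ← IsScalarTower.algebraMap_apply A B BA,
      ← IsScalarTower.algebraMap_apply A BA DA]
  letI : Algebra B₂ DA := ((algebraMap D DA).comp (algebraMap B₂ D)).toAlgebra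
  haveI : IsScalarTower B₂ D DA := IsScalarTower.of_algebraMap_eq fun _ => rfl
  haveI : IsScalarTower A B₂ DA := IsScalarTower.of_algebraMap_eq fun a => by
    show _ = algebraMap D DA (algebraMap B₂ D (algebraMap A B₂ a))
    rw [← IsScalarTower.algebraMap_apply A B₂ D, ← IsScalarTower.algebraMap_apply A D DA]
  let θ : BA₂ →ₐ[A] DA := Algebra.pushoutDesc (R := A) (R' := A') BA₂ (IsScalarTower.toAlgHom A B₂ DA)
    (IsScalarTower.toAlgHom A A' DA) fun _ _ => Commute.all _ _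
  letI : Algebra BA₂ DA := θ.toRingHom.toAlgebra
  haveI : IsScalarTower B₂ BA₂ DA := IsScalarTower.of_algebraMap_eq fun b =>
    (Algebra.pushoutDesc_left (R := A) (R' := A') BA₂ (IsScalarTower.toAlgHom A B₂ DA)
      (IsScalarTower.toAlgHom A A' DA) (fun _ _ => Commute.all _ _) b).symm
  haveI : IsScalarTower A' BA₂ DA := IsScalarTower.of_algebraMap_eq fun b =>
    (Algebra.pushoutDesc_right (R := A) BA₂ (IsScalarTower.toAlgHom A B₂ DA)
      (IsScalarTower.toAlgHom A A' DA) (fun _ _ => Commute.all _ _) b).symm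
  haveI : IsScalarTower A BA₂ DA := IsScalarTower.of_algebraMap_eq fun a => (θ.commutes a).symm
  haveI : Algebra.IsPushout B D BA DA := Algebra.IsPushout.symm inferInstance
  haveI hDA : Algebra.IsPushout A D A' DA :=
    (Algebra.IsPushout.comp_iff (R := A) (S := B) (R' := A') (S' := BA) (T := D) (T' := DA)).2 inferInstance
  haveI : Algebra.IsPushout B₂ D BA₂ DA :=
    (Algebra.IsPushout.comp_iff (R := A) (S := B₂) (R' := A') (S' := BA₂) (T := D) (T' := DA)).1 hDA
  haveI : Algebra.IsPushout B₂ BA₂ D DA := Algebra.IsPushout.symm inferInstance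
  haveI : Algebra.Etale BA₂ DA := Algebra.Etale.of_equiv (Algebra.IsPushout.equiv B₂ BA₂ D DA)
  let NDA := DA ⊗[BA] NA
  let d₁ : NA →ₗ[BA] NDA := TensorProduct.mk BA DA NA 1
  have hd₁ : IsBaseChange DA d₁ := TensorProduct.isBaseChange BA NA DA
  letI : Module D NDA := Module.compHom NDA (algebraMap D DA)
  haveI : IsScalarTower D DA NDA := IsScalarTower.of_algebraMap_smul fun _ _ => rfl
  haveI : IsScalarTower B BA NDA := IsScalarTower.of_algebraMap_smul fun b x => by
    induction x using TensorProduct.induction_on with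
    | zero => simp
    | add x y hx hy => simp only [smul_add, hx, hy]
    | tmul c m => rw [smul_tmul', smul_tmul', algebraMap_smul]
  haveI : IsScalarTower B D NDA := IsScalarTower.of_algebraMap_smul fun b x => by
    show algebraMap D DA (algebraMap B D b) • x = b • x
    rw [← IsScalarTower.algebraMap_apply B D DA, IsScalarTower.algebraMap_apply B BA DA, algebraMap_smul, algebraMap_smul]
  have hq₁ : IsBaseChange DA (d₁.restrictScalars B ∘ₗ fA) := hfA.comp hd₁
  let h₁ : ND →ₗ[D] NDA := hδ.lift (d₁.restrictScalars B ∘ₗ fA)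
  have hh₁ : IsBaseChange DA h₁ := IsBaseChange.of_comp hδ (by rw [IsBaseChange.lift_comp]; exact hq₁)
  letI : Module BA₂ NDA := Module.compHom NDA (algebraMap BA₂ DA)
  haveI : IsScalarTower BA₂ DA NDA := IsScalarTower.of_algebraMap_smul fun _ _ => rfl
  letI : Module B₂ NDA := Module.compHom NDA (algebraMap B₂ DA)
  haveI : IsScalarTower B₂ DA NDA := IsScalarTower.of_algebraMap_smul fun _ _ => rfl
  haveI : IsScalarTower B₂ D NDA := IsScalarTower.of_algebraMap_smul fun b x => by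
    show algebraMap D DA (algebraMap B₂ D b) • x = algebraMap B₂ DA b • x
    rfl
  haveI : IsScalarTower B₂ BA₂ NDA := IsScalarTower.of_algebraMap_smul fun b x => by
    show algebraMap BA₂ DA (algebraMap B₂ BA₂ b) • x = algebraMap B₂ DA b • x
    rw [← IsScalarTower.algebraMap_apply B₂ BA₂ DA]
  have hq₂ : IsBaseChange DA (h₁.restrictScalars B₂ ∘ₗ δ₂) := hδ₂.comp hh₁
  let d₂ : NA₂ →ₗ[BA₂] NDA := hfA₂.lift (h₁.restrictScalars B₂ ∘ₗ δ₂)
  have hd₂ : IsBaseChange DA d₂ := IsBaseChange.of_comp hfA₂ (by rw [IsBaseChange.lift_comp]; exact hq₂)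
  refine spread_of_delta d₁ hd₁ d₂ hd₂ p' n C Nc γ hγ hcover fun t _ ht q _ hq => ?_
  let K := q.ResidueField
  let σ : A' →ₐ[A] K := IsScalarTower.toAlgHom A A' K
  let a : B →ₐ[A] K := (IsScalarTower.toAlgHom A BA K).comp (IsScalarTower.toAlgHom A B BA)
  have hσ : RingHom.ker σ.toRingHom = t := by
    ext x
    show algebraMap A' K x = 0 ↔ x ∈ t
    rw [IsScalarTower.algebraMap_apply A' BA K, Ideal.algebraMap_residueField_eq_zero]
    exact (SetLike.ext_iff.1 hq.over x).symm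
  obtain ⟨L, _, _, e, c, hc, P', hP', hP'p, hker⟩ := hspec A' t p' ht K σ a hσ
  exact exists_delta (BA := BA) (BA₂ := BA₂) (DA := DA) p' σ (fun _ => rfl) a
    (fun _ => rfl) q (fun _ => Ideal.algebraMap_residueField_eq_zero) e c hc P' hP'p hker

/-- Linked charts give the spreading hypothesis. -/
theorem spreadsOverCharts_of_linked {A B : Type u} [CommRing A] [CommRing B] [Algebra A B]
    [Algebra.FinitePresentation A B] (N : Type u) [AddCommGroup N] [Module B N] [Module A N] [IsScalarTower A B N]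
    [Module.FinitePresentation B N] (hL : Linked A B B N N) (n : ℕ) : SpreadsOverCharts A B N n := by
  intro A₁ B₁ N₁ _ _ _ _ _ _ _ _ _ _ _ _ _ f₁ hf₁ _ _ P₁ _ A' _ _ p' _ hnb
  intro BA NA _ _ _ _ _ _ _ _ _ _ _ fA hfA k C _ _ _ _ _ Nc _ _ _ _ γ hγ hcover
  letI : Algebra A A' := ((algebraMap A₁ A').comp (algebraMap A A₁)).toAlgebra
  haveI : IsScalarTower A A₁ A' := IsScalarTower.of_algebraMap_eq fun _ => rfl
  letI : Algebra B BA := ((algebraMap B₁ BA).comp (algebraMap B B₁)).toAlgebra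
  haveI : IsScalarTower B B₁ BA := IsScalarTower.of_algebraMap_eq fun _ => rfl
  letI : Algebra A BA := ((algebraMap A' BA).comp (algebraMap A A')).toAlgebra
  haveI : IsScalarTower A A' BA := IsScalarTower.of_algebraMap_eq fun _ => rfl
  haveI : IsScalarTower A A₁ BA := IsScalarTower.of_algebraMap_eq fun a => by
    show algebraMap A' BA (algebraMap A₁ A' (algebraMap A A₁ a)) = _
    rw [← IsScalarTower.algebraMap_apply A₁ A' BA]
  haveI : IsScalarTower A B₁ BA := IsScalarTower.of_algebraMap_eq fun a => by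
    rw [IsScalarTower.algebraMap_apply A A₁ B₁, ← IsScalarTower.algebraMap_apply A₁ B₁ BA,
      ← IsScalarTower.algebraMap_apply A A₁ BA]
  haveI : IsScalarTower A B BA := IsScalarTower.of_algebraMap_eq fun a => by
    show _ = algebraMap B₁ BA (algebraMap B B₁ (algebraMap A B a))
    rw [← IsScalarTower.algebraMap_apply A B B₁, ← IsScalarTower.algebraMap_apply A B₁ BA]
  haveI : Algebra.IsPushout A A₁ B B₁ := Algebra.IsPushout.symm ‹Algebra.IsPushout A B A₁ B₁›
  haveI : Algebra.IsPushout A₁ A' B₁ BA := Algebra.IsPushout.symm ‹Algebra.IsPushout A₁ B₁ A' BA›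
  haveI : Algebra.IsPushout A A' B BA := (Algebra.IsPushout.comp_iff A A₁ B B₁ (T := A') (T' := BA)).2 inferInstance
  haveI : Algebra.IsPushout A B A' BA := Algebra.IsPushout.symm inferInstance
  letI : Module B NA := Module.compHom NA (algebraMap B BA)
  haveI : IsScalarTower B BA NA := IsScalarTower.of_algebraMap_smul fun _ _ => rfl
  haveI : IsScalarTower B B₁ NA := IsScalarTower.of_algebraMap_smul fun b x => by
    show algebraMap B B₁ b • x = algebraMap B₁ BA (algebraMap B B₁ b) • x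
    rw [algebraMap_smul BA]
  exact exists_spread_of_linked hL p' n (fA.restrictScalars B ∘ₗ f₁) (hf₁.comp hfA)
    (fA.restrictScalars B ∘ₗ f₁) (hf₁.comp hfA) C Nc γ hγ hcover

end GrothLib.PureFlatRep8
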