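import Groth.Agent.Lib.PureFlatRep8.Cover
import Groth.Agent.Lib.PureFlatRep8.Glue

/-!
# Flatness in dimensions `≥ n` of a pure module is represented by a monomorphism
-/

set_option autoImplicit false
set_option linter.style.haveILetI false
set_option linter.unusedSectionVars false
set_option backward.isDefEq.respectTransparency false
set_option maxHeartbeats 800000

universe u

open TensorProduct FlatCA CategoryTheory CategoryTheory.Limits AlgebraicGeometry GrothLib.DevFlatRep8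

namespace GrothLib.PureFlatRep8

attribute [local instance] Algebra.TensorProduct.rightAlgebra

variable {A B : Type u} [CommRing A] [CommRing B] [Algebra A B] [Algebra.FinitePresentation A B]
  (N : Type u) [AddCommGroup N] [Module B N] [Module A N] [IsScalarTower A B N] [Module.FinitePresentation B N]

theorem phi_succ (R : Type u) [CommRing R] [Algebra A R] (n : ℕ) (h : Phi A B N R 1 n) : Phi A B N R 1 (n + 1) :=
  fun t Q _ _ _ hg hnf => (h t Q hg hnf).trans (Nat.cast_lt.2 n.lt_succ_self)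

theorem exists_bound : ∃ m : ℕ, ∀ (n : ℕ), m < n → ∀ (R : Type u) [CommRing R] [Algebra A R], Phi A B N R 1 n := by
  obtain ⟨m, hm⟩ := exists_rdeg_bound A B
  refine ⟨m, fun n hn R _ _ => (phi_one_iff n).2 fun t Q _ _ hQt _ => ?_⟩
  let C := R ⊗[A] B
  let t₀ := t.comap (algebraMap A R)
  let Q₀ := Q.comap (algebraMap B C)
  haveI : t.LiesOver t₀ := ⟨rfl⟩
  haveI : Q.LiesOver Q₀ := ⟨rfl⟩
  haveI : Q₀.LiesOver t₀ := ⟨by
    show t.comap (algebraMap A R) = (Q.comap (algebraMap B C)).comap (algebraMap A B)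
    rw [hQt.over]
    show (Q.comap (algebraMap R C)).comap (algebraMap A R) = _
    rw [Ideal.comap_comap, Ideal.comap_comap, ← IsScalarTower.algebraMap_eq A R C, ← IsScalarTower.algebraMap_eq A B C]⟩
  exact ((rdeg_le_of_pushout t₀ t Q₀ Q).trans (hm t₀ Q₀)).trans_lt (Nat.cast_lt.2 hn)

variable (A B) in
/-- The spreading hypothesis over all quasi-finite algebras of finite type. -/
def SpreadsOverCharts (n : ℕ) : Prop :=
  ∀ (A₁ B₁ N₁ : Type u) [CommRing A₁] [CommRing B₁] [Algebra A A₁] [Algebra B B₁] [Algebra A₁ B₁] [Algebra A B₁]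
    [IsScalarTower A B B₁] [IsScalarTower A A₁ B₁] [Algebra.IsPushout A B A₁ B₁]
    [AddCommGroup N₁] [Module B₁ N₁] [Module B N₁] [IsScalarTower B B₁ N₁] (f₁ : N →ₗ[B] N₁), IsBaseChange B₁ f₁ →
    ∀ [Algebra.FiniteType A A₁] [Algebra.QuasiFinite A A₁] (P₁ : Ideal A₁) [P₁.IsPrime]
      (A' : Type u) [CommRing A'] [Algebra A₁ A'] (p' : Ideal A') [p'.IsPrime],
      IsEtaleNhd A₁ A' P₁ p' → Spreads A₁ B₁ N₁ A' p' n

variable (A B) in
/-- The representability statement. -/
def RepAll (n : ℕ) : Prop :=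
  ∃ (Z : Scheme.{u}) (i : Z ⟶ Spec (CommRingCat.of A)), Mono i ∧ LocallyOfFinitePresentation i ∧ QuasiCompact i ∧
    ∀ (R : Type u) [CommRing R] [Algebra A R],
      Phi A B N R 1 n ↔ ∃ x : Spec (CommRingCat.of R) ⟶ Z, x ≫ i = Spec.map (CommRingCat.ofHom (algebraMap A R))

theorem spreadsOverCharts_of_isPure (hpure : IsPure A B N) (n : ℕ) : SpreadsOverCharts A B N n := by
  intro A₁ B₁ N₁ _ _ _ _ _ _ _ _ _ _ _ _ _ f₁ hf₁ _ _ P₁ _ A' _ _ p' _ hnb
  haveI : Algebra.IsPushout A A₁ B B₁ := Algebra.IsPushout.symm ‹Algebra.IsPushout A B A₁ B₁›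
  haveI : Algebra.FinitePresentation A₁ B₁ :=
    (inferInstance : Algebra.FinitePresentation A₁ (A₁ ⊗[A] B)).equiv (Algebra.IsPushout.equiv A A₁ B B₁)
  haveI : Module.FinitePresentation B₁ N₁ := Module.FinitePresentation.of_equiv hf₁.equiv
  letI : Module A₁ N₁ := Module.compHom N₁ (algebraMap A₁ B₁)
  haveI : IsScalarTower A₁ B₁ N₁ := IsScalarTower.of_algebraMap_smul fun _ _ => rfl
  haveI : P₁.LiesOver (P₁.comap (algebraMap A A₁)) := ⟨rfl⟩
  exact spreads_of_isPureAlong N₁ P₁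
    (Groth.Agent.S1226.result N (P₁.comap (algebraMap A A₁)) A₁ B₁ N₁ f₁ hf₁ P₁ (hpure _)) A' p' hnb n

theorem exists_chart_cover (n : ℕ) (hspr : SpreadsOverCharts A B N n) {Z : Scheme.{u}} (i : Z ⟶ Spec (CommRingCat.of A)) [Mono i]
    [LocallyOfFinitePresentation i]
    (hi : ∀ (R : Type u) [CommRing R] [Algebra A R] (x : Spec (CommRingCat.of R) ⟶ Z),
      x ≫ i = Spec.map (CommRingCat.ofHom (algebraMap A R)) → Phi A B N R 1 (n + 1))
    (y : Z) :
    ∃ (U : Type u) (_ : CommRing U) (_ : Algebra A U) (u : Spec (CommRingCat.of U) ⟶ Z),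
      u ≫ i = Spec.map (CommRingCat.ofHom (algebraMap A U)) ∧ Etale u ∧ (∃ x, u x = y) ∧
      ∃ (W : Scheme.{u}) (w : W ⟶ Spec (CommRingCat.of U)), Mono w ∧ LocallyOfFinitePresentation w ∧ QuasiCompact w ∧
        ∀ (R : Type u) [CommRing R] [Algebra A R] [Algebra U R] [IsScalarTower A U R],
          Phi A B N R 1 n ↔ ∃ a, a ≫ w = Spec.map (CommRingCat.ofHom (algebraMap U R)) := by
  obtain ⟨c, p₁, hp₁⟩ : ∃ (c : Z.affineOpenCover.I₀) (p₁ : Spec (Z.affineOpenCover.X c)), Z.affineOpenCover.f c p₁ = y :=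
    ⟨_, Z.affineOpenCover.covers y⟩
  let A₁ : Type u := Z.affineOpenCover.X c
  let f : Spec (CommRingCat.of A₁) ⟶ Z := Z.affineOpenCover.f c
  haveI : IsOpenImmersion f := Z.affineOpenCover.map_prop c
  let φ := Spec.preimage (f ≫ i)
  letI : Algebra A A₁ := φ.hom.toAlgebra
  have hφ : Spec.map (CommRingCat.ofHom (algebraMap A A₁)) = f ≫ i := Spec.map_preimage _
  haveI : Algebra.FiniteType A A₁ := by
    have h : LocallyOfFiniteType (Spec.map (CommRingCat.ofHom (algebraMap A A₁))) := by rw [hφ]; infer_instance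
    rw [HasRingHomProperty.Spec_iff (P := @LocallyOfFiniteType)] at h
    exact RingHom.finiteType_algebraMap.1 h
  haveI : Algebra.QuasiFinite A A₁ := by
    have h : LocallyQuasiFinite (Spec.map (CommRingCat.ofHom (algebraMap A A₁))) := by
      rw [hφ]
      haveI : Mono (f ≫ i) := mono_comp _ _
      exact GrothLib.EtBasicB.locallyQuasiFinite_of_unramified (f ≫ i)
    rw [HasRingHomProperty.Spec_iff (P := @LocallyQuasiFinite)] at h
    exact RingHom.quasiFinite_algebraMap.1 h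
  obtain ⟨B₁, N₁, _, _, _, _, _, _, _, _, _, _, _, _, f₁, hpo, hf₁⟩ := RG6.Impure.exists_data A B N A₁
  haveI := hpo
  haveI : Algebra.IsPushout A A₁ B B₁ := hpo.symm
  haveI : Algebra.FinitePresentation A₁ B₁ :=
    (inferInstance : Algebra.FinitePresentation A₁ (A₁ ⊗[A] B)).equiv (Algebra.IsPushout.equiv A A₁ B B₁)
  haveI : Module.FinitePresentation B₁ N₁ := Module.FinitePresentation.of_equiv hf₁.equiv
  let P₁ : Ideal A₁ := p₁.asIdeal
  haveI : P₁.IsPrime := p₁.isPrime
  have hflat : ∀ (R : Type u) [CommRing R] [Algebra A₁ R], Phi A₁ B₁ N₁ R 1 (n + 1) := by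
    intro R _ _
    letI : Algebra A R := ((algebraMap A₁ R).comp (algebraMap A A₁)).toAlgebra
    haveI : IsScalarTower A A₁ R := IsScalarTower.of_algebraMap_eq fun _ => rfl
    refine (phi_tower (A₁ := A₁) f₁ hf₁ R (n + 1)).1 (hi R (Spec.map (CommRingCat.ofHom (algebraMap A₁ R)) ≫ f) ?_)
    rw [Category.assoc, ← hφ, ← Spec.map_comp]
    rfl
  obtain ⟨U, _, _, het, ⟨q, _, hq⟩, W, w, hwm, hwl, hwq, hW⟩ := exists_local N₁ P₁ n (fun A' _ _ p' _ hnb => hspr A₁ B₁ N₁ f₁ hf₁ P₁ A' p' hnb) hflat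
  letI : Algebra A U := ((algebraMap A₁ U).comp (algebraMap A A₁)).toAlgebra
  haveI : IsScalarTower A A₁ U := IsScalarTower.of_algebraMap_eq fun _ => rfl
  have hu : Spec.map (CommRingCat.ofHom (algebraMap A₁ U)) ≫ f ≫ i = Spec.map (CommRingCat.ofHom (algebraMap A U)) := by
    rw [← hφ, ← Spec.map_comp]; rfl
  haveI : Etale (Spec.map (CommRingCat.ofHom (algebraMap A₁ U))) := by
    rw [HasRingHomProperty.Spec_iff (P := @Etale)]
    exact RingHom.etale_algebraMap.2 het
  refine ⟨U, inferInstance, inferInstance, Spec.map (CommRingCat.ofHom (algebraMap A₁ U)) ≫ f,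
    (Category.assoc _ _ _).trans hu, MorphismProperty.comp_mem @Etale _ _ inferInstance inferInstance,
    ⟨(⟨q, ‹_›⟩ : PrimeSpectrum U), ?_⟩, W, w, hwm, hwl, hwq, fun R _ _ _ _ => ?_⟩
  · rw [Scheme.Hom.comp_apply, ← hp₁]
    exact congrArg f (PrimeSpectrum.ext hq)
  · letI : Algebra A₁ R := ((algebraMap U R).comp (algebraMap A₁ U)).toAlgebra
    haveI : IsScalarTower A₁ U R := IsScalarTower.of_algebraMap_eq fun _ => rfl
    haveI : IsScalarTower A A₁ R := IsScalarTower.of_algebraMap_eq fun a => by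
      show _ = algebraMap U R (algebraMap A₁ U (algebraMap A A₁ a))
      rw [← IsScalarTower.algebraMap_apply A A₁ U, ← IsScalarTower.algebraMap_apply A U R]
    exact (phi_tower (A₁ := A₁) f₁ hf₁ R n).trans (hW R)

theorem repAll_down (hspr : ∀ n, SpreadsOverCharts A B N n) (n : ℕ) (h : RepAll A B N (n + 1)) : RepAll A B N n := by
  obtain ⟨Z, i, hm, hl, hq, hi⟩ := h
  haveI := hm
  haveI := hl
  haveI := hq
  have H := exists_chart_cover N n (hspr n) i fun R _ _ x hx => (hi R).2 ⟨x, hx⟩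
  choose U _ _ u hu het hy hloc using H
  obtain ⟨M, m, hmm, hml, hmq, hM⟩ := exists_rep_of_etale_cover (A := A) (B := B) N n i (ι := Z) U u hu het
    (fun y => ⟨y, hy y⟩) hloc
  haveI := hmm
  haveI := hml
  haveI := hmq
  refine ⟨M, m ≫ i, mono_comp _ _, inferInstance, inferInstance, fun R _ _ => ⟨fun h => ?_, ?_⟩⟩
  · obtain ⟨x, hx⟩ := (hi R).1 (phi_succ N R n h)
    obtain ⟨a, ha⟩ := (hM R x hx).1 h
    exact ⟨a, by rw [← Category.assoc, ha, hx]⟩
  · rintro ⟨a, ha⟩
    exact (hM R (a ≫ m) (by rw [Category.assoc]; exact ha)).2 ⟨a, rfl⟩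

theorem repAll (hspr : ∀ n, SpreadsOverCharts A B N n) (n : ℕ) : RepAll A B N n := by
  obtain ⟨m, hm⟩ := exists_bound (A := A) (B := B) N
  have htop : ∀ n, m < n → RepAll A B N n := fun n hn =>
    ⟨_, 𝟙 _, inferInstance, inferInstance, inferInstance, fun R _ _ => ⟨fun _ => ⟨_, Category.comp_id _⟩, fun _ => hm n hn R⟩⟩
  suffices ∀ k n, n + k = m + 1 → RepAll A B N n by
    by_cases h : m < n
    · exact htop n h
    · exact this (m + 1 - n) n (by omega)
  intro k
  induction k with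
  | zero => exact fun n hn => htop n (by omega)
  | succ k ih => exact fun n hn => repAll_down N hspr n (ih (n + 1) (by omega))

theorem flatInDimGE_representable (hpure : IsPure A B N) (n : ℕ) :
    ∃ (Z : Scheme.{u}) (i : Z ⟶ Spec (CommRingCat.of A)),
      Mono i ∧ LocallyOfFinitePresentation i ∧ QuasiCompact i ∧ QuasiSeparated i ∧
      ∀ (A' B' N' : Type u) [CommRing A'] [CommRing B'] [Algebra A A'] [Algebra B B'] [Algebra A' B'] [Algebra A B']
        [IsScalarTower A B B'] [IsScalarTower A A' B'] [Algebra.IsPushout A B A' B']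
        [AddCommGroup N'] [Module B' N'] [Module B N'] [IsScalarTower B B' N'] [Module A' N'] [IsScalarTower A' B' N']
        (f : N →ₗ[B] N'), IsBaseChange B' f →
        (FlatInDimGE n A' B' N' ↔
          ∃ g : Spec (CommRingCat.of A') ⟶ Z, g ≫ i = Spec.map (CommRingCat.ofHom (algebraMap A A'))) := by
  obtain ⟨Z, i, hm, hl, hq, hi⟩ := repAll N (spreadsOverCharts_of_isPure N hpure) n
  haveI := hm
  refine ⟨Z, i, hm, hl, hq, inferInstance, fun A' B' N' _ _ _ _ _ _ _ _ _ _ _ _ _ _ _ f hf => ?_⟩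
  haveI : Algebra.IsPushout A A' B B' := Algebra.IsPushout.symm ‹Algebra.IsPushout A B A' B'›
  exact (phi_iff f hf (g := (1 : A)) (by rw [map_one]; exact isUnit_one) n).trans (hi A')

end GrothLib.PureFlatRep8
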