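import Groth.Prelude.Def_FlatCA
import Groth.Agent.Lib.RegSeqGen12.Count
import Mathlib

/-!
# Transcendence degrees of residue field extensions
-/

set_option autoImplicit false
set_option linter.style.haveILetI false
set_option linter.unusedSectionVars false
set_option backward.isDefEq.respectTransparency false
set_option maxHeartbeats 400000

universe u

open FlatCA TensorProduct

namespace GrothLib.PureFlatRep8

theorem trdeg_le_base {k k' L L' : Type u} [Field k] [Field k'] [Field L] [Field L'] [Algebra k k'] [Algebra k L]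
    [Algebra k' L'] [Algebra L L'] [Algebra k L'] [IsScalarTower k k' L'] [IsScalarTower k L L']
    [Algebra.IsIntegral k k'] : Algebra.trdeg k L ≤ Algebra.trdeg k' L' := by
  have h2 := trdeg_add_eq k k' (A := L')
  rw [trdeg_eq_zero (R := k) (A := k'), zero_add] at h2
  rw [h2]
  exact trdeg_le_of_injective (IsScalarTower.toAlgHom k L L') (algebraMap L L').injective

theorem trdeg_le_top {k k' L L' : Type u} [Field k] [Field k'] [Field L] [Field L'] [Algebra k k'] [Algebra k L]
    [Algebra k' L'] [Algebra L L'] [Algebra k L'] [IsScalarTower k k' L'] [IsScalarTower k L L']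
    [Algebra.IsIntegral L L'] : Algebra.trdeg k' L' ≤ Algebra.trdeg k L := by
  have h2 := trdeg_add_eq k L (A := L')
  rw [trdeg_eq_zero (R := L) (A := L'), add_zero] at h2
  rw [h2, ← trdeg_add_eq k k' (A := L')]
  exact self_le_add_left _ _

theorem trdeg_le_of_ker {k F L₁ L₂ : Type u} [Field k] [CommRing F] [Algebra k F] [Field L₁] [Field L₂] [Algebra k L₁]
    [Algebra k L₂] (ψ : F →ₐ[k] L₁) (φ : F →ₐ[k] L₂) (hker : ∀ z, ψ z = 0 → φ z = 0)
    (hgen : ∀ z : L₂, ∃ x w : F, z = φ x / φ w) : Algebra.trdeg k L₂ ≤ Algebra.trdeg k L₁ := by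
  let s : Set L₂ := Set.range φ
  have htop : IntermediateField.adjoin k s = ⊤ := by
    refine eq_top_iff.2 fun z _ => ?_
    obtain ⟨x, w, rfl⟩ := hgen z
    exact div_mem (IntermediateField.subset_adjoin _ _ ⟨_, rfl⟩) (IntermediateField.subset_adjoin _ _ ⟨_, rfl⟩)
  haveI : Algebra.IsAlgebraic (IntermediateField.adjoin k s) L₂ :=
    ⟨fun a => isAlgebraic_algebraMap (⟨a, htop ▸ IntermediateField.mem_top⟩ : IntermediateField.adjoin k s)⟩
  have halg := IntermediateField.isAlgebraic_adjoin_iff_top.mp
    (inferInstance : Algebra.IsAlgebraic (IntermediateField.adjoin k s) L₂)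
  obtain ⟨T, hTs, hT⟩ := exists_isTranscendenceBasis_subset (R := k) s
  rw [← hT.cardinalMk_eq_trdeg]
  choose v hv using fun a : T => hTs a.2
  have hind : AlgebraicIndependent k (fun a : T => ψ (v a)) := by
    rw [algebraicIndependent_iff]
    intro p hp
    have h1 : ψ (MvPolynomial.aeval v p) = 0 := by
      rw [← AlgHom.comp_apply, MvPolynomial.comp_aeval]; exact hp
    refine algebraicIndependent_iff.1 hT.1 p ?_
    rw [show ((↑) : T → L₂) = fun a => φ (v a) from funext fun a => (hv a).symm, ← MvPolynomial.comp_aeval,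
      AlgHom.comp_apply]
    exact hker _ h1
  exact hind.cardinalMk_le_trdeg

theorem trdeg_le_card {k L : Type u} [Field k] [Field L] [Algebra k L] (T : Finset L)
    (htop : IntermediateField.adjoin k (T : Set L) = ⊤) : Algebra.trdeg k L ≤ (T.card : Cardinal.{u}) := by
  rw [← ((IntermediateField.equivOfEq htop).trans IntermediateField.topEquiv).trdeg_eq]
  refine (GrothLib.RegSeqGen12.trdeg_adjoin_le_card _).trans ?_
  exact le_of_eq (by simp)

/-- The residue field map of a prime over a prime. -/
noncomputable def res {R C : Type u} [CommRing R] [CommRing C] [Algebra R C] (t : Ideal R) (Q : Ideal C)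
    [t.IsPrime] [Q.IsPrime] [h : Q.LiesOver t] : t.ResidueField →+* Q.ResidueField :=
  (Ideal.ResidueField.mapₐ t Q (Algebra.ofId R C) h.over).toRingHom

/-- The transcendence degree of the residue field extension. -/
noncomputable def rdeg {R C : Type u} [CommRing R] [CommRing C] [Algebra R C] (t : Ideal R) (Q : Ideal C)
    [t.IsPrime] [Q.IsPrime] [h : Q.LiesOver t] : Cardinal.{u} :=
  letI : Algebra t.ResidueField Q.ResidueField :=
    (Ideal.ResidueField.mapₐ t Q (Algebra.ofId R C) h.over).toRingHom.toAlgebra
  Algebra.trdeg t.ResidueField Q.ResidueField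

theorem flatInDimGE_iff (n : ℕ) (A B : Type u) [CommRing A] [CommRing B] [Algebra A B] (N : Type u)
    [AddCommGroup N] [Module B N] [Module A N] [IsScalarTower A B N] :
    FlatInDimGE n A B N ↔ ∀ (t : Ideal A) (Q : Ideal B) [t.IsPrime] [Q.IsPrime] [Q.LiesOver t],
      ¬ FlatAt A Q N → rdeg t Q < (n : Cardinal.{u}) := Iff.rfl

theorem res_algebraMap {R C : Type u} [CommRing R] [CommRing C] [Algebra R C] (t : Ideal R) (Q : Ideal C)
    [t.IsPrime] [Q.IsPrime] [h : Q.LiesOver t] (r : R) :
    res t Q (algebraMap R t.ResidueField r) = algebraMap R Q.ResidueField r :=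
  (Ideal.ResidueField.mapₐ t Q (Algebra.ofId R C) h.over).commutes r

theorem res_comp {R C C' : Type u} [CommRing R] [CommRing C] [CommRing C'] [Algebra R C] [Algebra C C'] [Algebra R C']
    [IsScalarTower R C C'] (t : Ideal R) (Q : Ideal C) (Q' : Ideal C') [t.IsPrime] [Q.IsPrime] [Q'.IsPrime]
    [Q.LiesOver t] [Q'.LiesOver Q] [Q'.LiesOver t] : res t Q' = (res Q Q').comp (res t Q) := by
  refine Ideal.ResidueField.ringHom_ext ?_
  ext r
  simp only [RingHom.comp_apply]
  rw [res_algebraMap, res_algebraMap, IsScalarTower.algebraMap_apply R C Q.ResidueField, res_algebraMap,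
    IsScalarTower.algebraMap_apply R C' Q'.ResidueField, IsScalarTower.algebraMap_apply R C C',
    ← IsScalarTower.algebraMap_apply C C' Q'.ResidueField]

theorem res_isIntegral {R C : Type u} [CommRing R] [CommRing C] [Algebra R C] [Algebra.QuasiFinite R C]
    (t : Ideal R) (Q : Ideal C) [t.IsPrime] [Q.IsPrime] [Q.LiesOver t] : (res t Q).IsIntegral := by
  letI : Algebra t.ResidueField Q.ResidueField := (res t Q).toAlgebra
  haveI : IsScalarTower R t.ResidueField Q.ResidueField :=
    IsScalarTower.of_algebraMap_eq fun r => (res_algebraMap t Q r).symm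
  haveI : Algebra.QuasiFinite t.ResidueField Q.ResidueField := .of_restrictScalars R _ _
  haveI : Module.Finite t.ResidueField Q.ResidueField := .of_quasiFinite
  exact (Algebra.IsIntegral.of_finite t.ResidueField Q.ResidueField).1

section Square

variable {R R' C C' : Type u} [CommRing R] [CommRing R'] [CommRing C] [CommRing C'] [Algebra R R'] [Algebra R C]
  [Algebra R' C'] [Algebra C C'] [Algebra R C'] [IsScalarTower R R' C'] [IsScalarTower R C C']
  (t : Ideal R) (t' : Ideal R') (Q : Ideal C) (Q' : Ideal C') [t.IsPrime] [t'.IsPrime] [Q.IsPrime] [Q'.IsPrime]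
  [t'.LiesOver t] [Q.LiesOver t] [Q'.LiesOver t'] [Q'.LiesOver Q]

theorem rdeg_le_of_integral_base (h : (res t t').IsIntegral) : rdeg t Q ≤ rdeg t' Q' := by
  haveI : Q'.LiesOver t := Ideal.LiesOver.trans Q' t' t
  letI : Algebra t.ResidueField t'.ResidueField := (res t t').toAlgebra
  letI : Algebra t.ResidueField Q.ResidueField := (res t Q).toAlgebra
  letI : Algebra t'.ResidueField Q'.ResidueField := (res t' Q').toAlgebra
  letI : Algebra Q.ResidueField Q'.ResidueField := (res Q Q').toAlgebra
  letI : Algebra t.ResidueField Q'.ResidueField := (res t Q').toAlgebra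
  haveI : IsScalarTower t.ResidueField t'.ResidueField Q'.ResidueField :=
    IsScalarTower.of_algebraMap_eq' (res_comp t t' Q')
  haveI : IsScalarTower t.ResidueField Q.ResidueField Q'.ResidueField :=
    IsScalarTower.of_algebraMap_eq' (res_comp t Q Q')
  haveI : Algebra.IsIntegral t.ResidueField t'.ResidueField := ⟨h⟩
  exact trdeg_le_base (k := t.ResidueField) (k' := t'.ResidueField) (L := Q.ResidueField) (L' := Q'.ResidueField)

theorem rdeg_le_of_integral_top (h : (res Q Q').IsIntegral) : rdeg t' Q' ≤ rdeg t Q := by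
  haveI : Q'.LiesOver t := Ideal.LiesOver.trans Q' t' t
  letI : Algebra t.ResidueField t'.ResidueField := (res t t').toAlgebra
  letI : Algebra t.ResidueField Q.ResidueField := (res t Q).toAlgebra
  letI : Algebra t'.ResidueField Q'.ResidueField := (res t' Q').toAlgebra
  letI : Algebra Q.ResidueField Q'.ResidueField := (res Q Q').toAlgebra
  letI : Algebra t.ResidueField Q'.ResidueField := (res t Q').toAlgebra
  haveI : IsScalarTower t.ResidueField t'.ResidueField Q'.ResidueField :=
    IsScalarTower.of_algebraMap_eq' (res_comp t t' Q')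
  haveI : IsScalarTower t.ResidueField Q.ResidueField Q'.ResidueField :=
    IsScalarTower.of_algebraMap_eq' (res_comp t Q Q')
  haveI : Algebra.IsIntegral Q.ResidueField Q'.ResidueField := ⟨h⟩
  exact trdeg_le_top (k := t.ResidueField) (k' := t'.ResidueField) (L := Q.ResidueField) (L' := Q'.ResidueField)

end Square

section Single

variable {R C : Type u} [CommRing R] [CommRing C] [Algebra R C]

theorem exists_div {Q : Ideal C} [Q.IsPrime] (z : Q.ResidueField) :
    ∃ x w : C, z = algebraMap C Q.ResidueField x / algebraMap C Q.ResidueField w := by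
  obtain ⟨x, w, -, hz⟩ := IsFractionRing.div_surjective (A := C ⧸ Q) z
  obtain ⟨x, rfl⟩ := Ideal.Quotient.mk_surjective x
  obtain ⟨w, rfl⟩ := Ideal.Quotient.mk_surjective w
  exact ⟨x, w, hz.symm⟩

/-- Specialising in a fibre does not increase the transcendence degree. -/
theorem rdeg_le_of_le (t : Ideal R) (q' Q : Ideal C) [t.IsPrime] [q'.IsPrime] [Q.IsPrime] [hq' : q'.LiesOver t]
    [hQ : Q.LiesOver t] (hle : q' ≤ Q) : rdeg t Q ≤ rdeg t q' := by
  letI : Algebra t.ResidueField Q.ResidueField := (res t Q).toAlgebra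
  letI : Algebra t.ResidueField q'.ResidueField := (res t q').toAlgebra
  haveI : IsScalarTower R t.ResidueField Q.ResidueField :=
    IsScalarTower.of_algebraMap_eq fun r => (res_algebraMap t Q r).symm
  haveI : IsScalarTower R t.ResidueField q'.ResidueField :=
    IsScalarTower.of_algebraMap_eq fun r => (res_algebraMap t q' r).symm
  let φ : t.Fiber C →ₐ[t.ResidueField] Q.ResidueField := Algebra.TensorProduct.lift (Algebra.ofId _ _)
    (IsScalarTower.toAlgHom R C Q.ResidueField) fun _ _ => mul_comm _ _
  let ψ : t.Fiber C →ₐ[t.ResidueField] q'.ResidueField := Algebra.TensorProduct.lift (Algebra.ofId _ _)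
    (IsScalarTower.toAlgHom R C q'.ResidueField) fun _ _ => mul_comm _ _
  have hφ : ∀ c : C, φ (1 ⊗ₜ c) = algebraMap C Q.ResidueField c := fun c => by
    show Algebra.TensorProduct.lift _ _ _ _ = _
    rw [Algebra.TensorProduct.lift_tmul, map_one, one_mul, IsScalarTower.coe_toAlgHom']
  have hψ : ∀ c : C, ψ (1 ⊗ₜ c) = algebraMap C q'.ResidueField c := fun c => by
    show Algebra.TensorProduct.lift _ _ _ _ = _
    rw [Algebra.TensorProduct.lift_tmul, map_one, one_mul, IsScalarTower.coe_toAlgHom']
  have hker : ∀ z, ψ z = 0 → φ z = 0 := by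
    intro z hz
    obtain ⟨r, hr, c, hc⟩ := Ideal.Fiber.exists_smul_eq_one_tmul t z
    have hr0 : algebraMap R t.ResidueField r ≠ 0 := fun h0 => hr (Ideal.algebraMap_residueField_eq_zero.1 h0)
    rw [← algebraMap_smul t.ResidueField r z] at hc
    have h1 := congrArg ψ hc
    rw [map_smul, hz, smul_zero, hψ] at h1
    have h2 := congrArg φ hc
    rw [map_smul, hφ, Ideal.algebraMap_residueField_eq_zero.2 (hle (Ideal.algebraMap_residueField_eq_zero.1 h1.symm))] at h2
    rw [Algebra.smul_def, mul_eq_zero] at h2
    exact h2.resolve_left fun h0 => hr0 ((algebraMap t.ResidueField Q.ResidueField).injective (h0.trans (map_zero _).symm))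
  exact trdeg_le_of_ker ψ φ hker fun z => by
    obtain ⟨x, w, rfl⟩ := exists_div z
    exact ⟨(1 : t.ResidueField) ⊗ₜ[R] x, (1 : t.ResidueField) ⊗ₜ[R] w, by rw [hφ, hφ]⟩

/-- The transcendence degrees in the fibres are bounded by the number of generators. -/
theorem exists_rdeg_bound (R C : Type u) [CommRing R] [CommRing C] [Algebra R C] [Algebra.FiniteType R C] :
    ∃ m : ℕ, ∀ (t : Ideal R) (Q : Ideal C) [t.IsPrime] [Q.IsPrime] [Q.LiesOver t], rdeg t Q ≤ (m : Cardinal.{u}) := by
  classical
  obtain ⟨s, hs⟩ := (inferInstance : Algebra.FiniteType R C).out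
  refine ⟨s.card, fun t Q _ _ _ => ?_⟩
  letI : Algebra t.ResidueField Q.ResidueField := (res t Q).toAlgebra
  haveI : IsScalarTower R t.ResidueField Q.ResidueField :=
    IsScalarTower.of_algebraMap_eq fun r => (res_algebraMap t Q r).symm
  let T : Finset Q.ResidueField := s.image (algebraMap C Q.ResidueField)
  let E := IntermediateField.adjoin t.ResidueField (T : Set Q.ResidueField)
  have hmem : ∀ c : C, algebraMap C Q.ResidueField c ∈ E := fun c => by
    have hc : c ∈ Algebra.adjoin R (s : Set C) := hs ▸ Algebra.mem_top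
    induction hc using Algebra.adjoin_induction with
    | mem x hx => exact IntermediateField.subset_adjoin _ _ (Finset.mem_coe.2 (Finset.mem_image_of_mem _ hx))
    | algebraMap r =>
      rw [← IsScalarTower.algebraMap_apply R C Q.ResidueField, IsScalarTower.algebraMap_apply R t.ResidueField Q.ResidueField]
      exact E.algebraMap_mem _
    | add x y _ _ hx hy => rw [map_add]; exact add_mem hx hy
    | mul x y _ _ hx hy => rw [map_mul]; exact mul_mem hx hy
  have htop : E = ⊤ := eq_top_iff.2 fun z _ => by
    obtain ⟨x, w, rfl⟩ := exists_div z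
    exact div_mem (hmem x) (hmem w)
  exact (trdeg_le_card T htop).trans (Nat.cast_le.2 Finset.card_image_le)

end Single

theorem quasiFinite_of_etale (R C : Type u) [CommRing R] [CommRing C] [Algebra R C] [Algebra.Etale R C] :
    Algebra.QuasiFinite R C := inferInstance

end GrothLib.PureFlatRep8
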