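import Groth.Agent.Lib.DevFlatRep8.Main
import Groth.Agent.Lib.PureFlatRep8.Rdeg
import Groth.Agent.Lib.RG6.CritMain
import Groth.Agent.Lib.RG6.Impure.Basic
import Groth.Agent.Lib.FlatDescent8.Basic

/-!
# Flatness in dimensions `≥ n` under étale maps
-/

set_option autoImplicit false
set_option linter.style.haveILetI false
set_option linter.unusedSectionVars false
set_option backward.isDefEq.respectTransparency false
set_option maxHeartbeats 400000

universe u

open TensorProduct FlatCA GrothLib.DevFlatRep8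

namespace GrothLib.PureFlatRep8

attribute [local instance] Algebra.TensorProduct.rightAlgebra

variable {A B : Type u} [CommRing A] [CommRing B] [Algebra A B] {N : Type u} [AddCommGroup N] [Module B N]

theorem phi_iff {R C : Type u} [CommRing R] [CommRing C] [Algebra A R] [Algebra A C] [Algebra R C] [Algebra B C]
    [IsScalarTower A R C] [IsScalarTower A B C] [Algebra.IsPushout A R B C] {G : Type u} [AddCommGroup G]
    [Module C G] [Module R G] [IsScalarTower R C G] [Module B G] [IsScalarTower B C G] (φ : N →ₗ[B] G)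
    (hφ : IsBaseChange C φ) {g : A} (hg : IsUnit (algebraMap A R g)) (n : ℕ) :
    FlatInDimGE n R C G ↔ Phi A B N R g n := by
  rw [← fdg_iff_of_isUnit (algebraMap A R g) n G hg, phi_abstract R C φ hφ g n]

theorem phi_one_iff {R : Type u} [CommRing R] [Algebra A R] (n : ℕ) :
    Phi A B N R 1 n ↔ FlatInDimGE n R (R ⊗[A] B) ((R ⊗[A] B) ⊗[B] N) :=
  fdg_iff_of_isUnit (algebraMap A R 1) n _ (by rw [map_one]; exact isUnit_one)

theorem phi_unit_iff {R : Type u} [CommRing R] [Algebra A R] {g : A} (hg : IsUnit (algebraMap A R g)) (n : ℕ) :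
    Phi A B N R g n ↔ Phi A B N R 1 n := by
  rw [phi_one_iff]; exact fdg_iff_of_isUnit (algebraMap A R g) n _ hg

/-- Reading the condition over an intermediate base. -/
theorem phi_tower {A₁ B₁ : Type u} [CommRing A₁] [CommRing B₁] [Algebra A A₁] [Algebra B B₁] [Algebra A₁ B₁]
    [Algebra A B₁] [IsScalarTower A B B₁] [IsScalarTower A A₁ B₁] [Algebra.IsPushout A B A₁ B₁]
    {N₁ : Type u} [AddCommGroup N₁] [Module B₁ N₁] [Module B N₁] [IsScalarTower B B₁ N₁] (f : N →ₗ[B] N₁)
    (hf : IsBaseChange B₁ f) (R : Type u) [CommRing R] [Algebra A R] [Algebra A₁ R] [IsScalarTower A A₁ R] (n : ℕ) :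
    Phi A B N R 1 n ↔ Phi A₁ B₁ N₁ R 1 n := by
  rw [phi_one_iff (A := A₁)]
  let C := R ⊗[A₁] B₁
  letI : Algebra B C := ((algebraMap B₁ C).comp (algebraMap B B₁)).toAlgebra
  haveI : IsScalarTower B B₁ C := IsScalarTower.of_algebraMap_eq fun _ => rfl
  haveI : IsScalarTower A A₁ C := IsScalarTower.of_algebraMap_eq fun a => by
    rw [IsScalarTower.algebraMap_apply A R C, IsScalarTower.algebraMap_apply A A₁ R,
      ← IsScalarTower.algebraMap_apply A₁ R C]
  haveI : IsScalarTower A B C := IsScalarTower.of_algebraMap_eq fun a => by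
    show _ = algebraMap B₁ C (algebraMap B B₁ (algebraMap A B a))
    rw [← IsScalarTower.algebraMap_apply A B B₁, IsScalarTower.algebraMap_apply A A₁ B₁,
      ← IsScalarTower.algebraMap_apply A₁ B₁ C, ← IsScalarTower.algebraMap_apply A A₁ C]
  haveI : IsScalarTower A B₁ C := IsScalarTower.of_algebraMap_eq fun a => by
    rw [IsScalarTower.algebraMap_apply A A₁ B₁, ← IsScalarTower.algebraMap_apply A₁ B₁ C,
      ← IsScalarTower.algebraMap_apply A A₁ C]
  haveI : Algebra.IsPushout A A₁ B B₁ := Algebra.IsPushout.symm ‹Algebra.IsPushout A B A₁ B₁›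
  haveI : Algebra.IsPushout A R B C := (Algebra.IsPushout.comp_iff A A₁ B B₁ (T := R) (T' := C)).2 inferInstance
  haveI : IsScalarTower B B₁ (C ⊗[B₁] N₁) := IsScalarTower.of_algebraMap_smul fun b x => by
    induction x using TensorProduct.induction_on with
    | zero => simp
    | add x y hx hy => simp only [smul_add, hx, hy]
    | tmul c m => rw [smul_tmul', smul_tmul', algebraMap_smul]
  refine (phi_iff ((TensorProduct.mk B₁ C N₁ 1).restrictScalars B ∘ₗ f)
    (hf.comp (TensorProduct.isBaseChange B₁ N₁ C)) (g := (1 : A)) (by rw [map_one]; exact isUnit_one) n).symm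

/-- The condition may be checked étale locally on the base. -/
theorem phi_descent [Algebra.FiniteType A B] (R : Type u) [CommRing R] [Algebra A R] (n : ℕ)
    (h : ∀ (t : Ideal R) [t.IsPrime], ∃ (R' : Type u) (_ : CommRing R') (_ : Algebra R R') (_ : Algebra A R')
      (_ : IsScalarTower A R R') (t' : Ideal R') (_ : t'.IsPrime),
      Algebra.Etale R R' ∧ t'.LiesOver t ∧ Phi A B N R' 1 n) : Phi A B N R 1 n := by
  rw [phi_one_iff]
  intro t Q _ _ hQt hnf
  obtain ⟨R', _, _, _, _, t', _, het, ht', hphi⟩ := h t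
  haveI := het
  haveI := ht'
  let C := R ⊗[A] B
  let G := C ⊗[B] N
  obtain ⟨B', N', _, _, _, _, _, _, _, _, _, _, _, _, f', hpo', hf'⟩ := RG6.Impure.exists_data A B N R'
  haveI : Algebra.IsPushout A B R C := Algebra.IsPushout.symm inferInstance
  obtain ⟨_, _, _, _, _, hsq, _, _, φ, hφ, -⟩ := RG6.Impure.exists_map (A₁ := R) (B₁ := C) (A₂ := R') (B₂ := B')
    (f₁ := TensorProduct.mk B C N 1) (f₂ := f') ‹_› (TensorProduct.isBaseChange B N C) hpo' hf'
  haveI := hsq
  haveI : Algebra.IsPushout R C R' B' := Algebra.IsPushout.symm hsq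
  haveI : Algebra.IsPushout A R' B B' := Algebra.IsPushout.symm hpo'
  obtain ⟨Q', _, hQ'Q, hQ't⟩ := FlatDescent8.exists_prime_over (R := R) (S := C) (R' := R') (S' := B') Q t'
    (hQt.over.symm.trans ht'.over)
  haveI : Q'.LiesOver Q := ⟨hQ'Q.symm⟩
  haveI : Q'.LiesOver t' := ⟨hQ't.symm⟩
  haveI : Module.Flat C B' := by
    haveI : Module.Flat C (C ⊗[R] R') := inferInstance
    exact Module.Flat.of_linearEquiv (Algebra.IsPushout.equiv R C R' B').toLinearEquiv.symm
  letI : Module R N' := Module.compHom N' (algebraMap R B')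
  haveI : IsScalarTower R B' N' := IsScalarTower.of_algebraMap_smul fun _ _ => rfl
  haveI : IsScalarTower R R' N' := IsScalarTower.of_algebraMap_smul fun r x => by
    show algebraMap R R' r • x = algebraMap R B' r • x
    rw [IsScalarTower.algebraMap_apply R R' B' r, algebraMap_smul B' (algebraMap R R' r) x]
  have hnf' : ¬ FlatAt R' Q' N' := fun hf => hnf (by
    have h1 : FlatAt R Q' N' :=
      haveI : Module.Flat R' (LocalizedModule Q'.primeCompl N') := hf
      Module.Flat.trans R R' (LocalizedModule Q'.primeCompl N')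
    have h2 := (FlatAbove.flatAt_iff (A := R) (B := C) (C := B') φ hφ Q').2 h1
    exact RG6.flat_congr_prime hQ'Q h2)
  have h3 : rdeg t' Q' < (n : Cardinal.{u}) :=
    (phi_iff (A := A) (B := B) (R := R') (C := B') f' hf' (g := (1 : A)) (by rw [map_one]; exact isUnit_one) n).2
      hphi t' Q' hnf'
  exact (rdeg_le_of_integral_base t t' Q Q' (res_isIntegral t t')).trans_lt h3

section Abstract

variable {R C C' G G' : Type u} [CommRing R] [CommRing C] [CommRing C'] [Algebra R C] [Algebra C C'] [Algebra R C']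
  [IsScalarTower R C C'] [Algebra.Etale C C'] [AddCommGroup G] [Module C G] [Module R G] [IsScalarTower R C G]
  [AddCommGroup G'] [Module C' G'] [Module C G'] [IsScalarTower C C' G'] [Module R G'] [IsScalarTower R C' G']
  {φ : G →ₗ[C] G'}

theorem flatInDimGE_etale (hφ : IsBaseChange C' φ) (n : ℕ) (h : FlatInDimGE n R C G) : FlatInDimGE n R C' G' := by
  intro t Q' _ _ hQ't hnf
  let Q := Q'.comap (algebraMap C C')
  haveI : Q'.LiesOver Q := ⟨rfl⟩
  haveI : Q.LiesOver t := ⟨by
    show t = (Q'.comap (algebraMap C C')).comap (algebraMap R C)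
    rw [Ideal.comap_comap, ← IsScalarTower.algebraMap_eq]; exact hQ't.over⟩
  haveI : t.LiesOver t := ⟨(Ideal.comap_id t).symm⟩
  have h1 : ¬ FlatAt R Q G := fun hf => hnf ((FlatAbove.flatAt_iff (A := R) φ hφ Q').1 hf)
  exact (rdeg_le_of_integral_top t t Q Q' (res_isIntegral Q Q')).trans_lt (h t Q h1)

theorem rdeg_lt_of_etale (hφ : IsBaseChange C' φ) (n : ℕ) (h : FlatInDimGE n R C' G') (t : Ideal R) (q : Ideal C)
    [t.IsPrime] [q.IsPrime] [q.LiesOver t] (Q' : Ideal C') [Q'.IsPrime] (hQ' : Q'.comap (algebraMap C C') = q)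
    (hnf : ¬ FlatAt R q G) : rdeg t q < (n : Cardinal.{u}) := by
  haveI : Q'.LiesOver q := ⟨hQ'.symm⟩
  haveI : Q'.LiesOver t := Ideal.LiesOver.trans Q' q t
  haveI : t.LiesOver t := ⟨(Ideal.comap_id t).symm⟩
  have h1 : ¬ FlatAt R Q' G' := fun hf => hnf (RG6.flat_congr_prime hQ' ((FlatAbove.flatAt_iff (A := R) φ hφ Q').2 hf))
  exact (rdeg_le_of_integral_base t t q Q' (res_isIntegral t t)).trans_lt (h t Q' h1)

end Abstract

section Etale

variable {C : Type u} [CommRing C] [Algebra B C] [Algebra A C] [IsScalarTower A B C]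
  {Nc : Type u} [AddCommGroup Nc] [Module C Nc] [Module B Nc] [IsScalarTower B C Nc] (γ : N →ₗ[B] Nc)
  (hγ : IsBaseChange C γ) (R : Type u) [CommRing R] [Algebra A R]

include hγ in
theorem phi_etale_iff (n : ℕ) : Phi A C Nc R 1 n ↔
    FlatInDimGE n R ((R ⊗[A] B) ⊗[B] C)
      (((R ⊗[A] B) ⊗[B] C) ⊗[R ⊗[A] B] ((R ⊗[A] B) ⊗[B] N)) := by
  let BR := R ⊗[A] B
  let CR := BR ⊗[B] C
  let G := BR ⊗[B] N
  let GR := CR ⊗[BR] G
  haveI : IsScalarTower A C CR := IsScalarTower.of_algebraMap_eq fun a => by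
    rw [IsScalarTower.algebraMap_apply A B C, ← IsScalarTower.algebraMap_apply B C CR,
      IsScalarTower.algebraMap_apply B BR CR, ← IsScalarTower.algebraMap_apply A B BR,
      ← IsScalarTower.algebraMap_apply A BR CR]
  haveI : Algebra.IsPushout A B R BR := Algebra.IsPushout.symm inferInstance
  haveI : Algebra.IsPushout B C BR CR := Algebra.IsPushout.symm inferInstance
  haveI : Algebra.IsPushout A R C CR := Algebra.IsPushout.symm
    ((Algebra.IsPushout.comp_iff (R := A) (S := B) (R' := R) (S' := BR) (T := C) (T' := CR)).2 inferInstance)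
  letI : Module C GR := Module.compHom GR (algebraMap C CR)
  haveI : IsScalarTower C CR GR := IsScalarTower.of_algebraMap_smul fun _ _ => rfl
  haveI : IsScalarTower B BR GR := IsScalarTower.of_algebraMap_smul fun b x => by
    induction x using TensorProduct.induction_on with
    | zero => simp
    | add x y hx hy => simp only [smul_add, hx, hy]
    | tmul c m => rw [smul_tmul', smul_tmul', algebraMap_smul]
  haveI : IsScalarTower B C GR := IsScalarTower.of_algebraMap_smul fun b x => by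
    show algebraMap C CR (algebraMap B C b) • x = b • x
    rw [← IsScalarTower.algebraMap_apply B C CR, IsScalarTower.algebraMap_apply B BR CR, algebraMap_smul, algebraMap_smul]
  let q : N →ₗ[B] GR := (TensorProduct.mk BR CR G 1).restrictScalars B ∘ₗ TensorProduct.mk B BR N 1
  have hq : IsBaseChange CR q := (TensorProduct.isBaseChange B N BR).comp (TensorProduct.isBaseChange BR G CR)
  refine (phi_iff (hγ.lift q) (IsBaseChange.of_comp hγ ?_) (g := (1 : A)) (by rw [map_one]; exact isUnit_one) n).symm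
  rw [IsBaseChange.lift_comp]; exact hq

variable [Algebra.Etale B C]

include hγ in
theorem phi_etale_up (n : ℕ) (h : Phi A B N R 1 n) : Phi A C Nc R 1 n := by
  have h' := (phi_one_iff n).1 h
  have h0 := TensorProduct.isBaseChange (R ⊗[A] B) ((R ⊗[A] B) ⊗[B] N) ((R ⊗[A] B) ⊗[B] C)
  have h1 := flatInDimGE_etale (R := R) (C := R ⊗[A] B) (C' := (R ⊗[A] B) ⊗[B] C) (G := (R ⊗[A] B) ⊗[B] N)
    (G' := ((R ⊗[A] B) ⊗[B] C) ⊗[R ⊗[A] B] ((R ⊗[A] B) ⊗[B] N))
    (φ := TensorProduct.mk (R ⊗[A] B) ((R ⊗[A] B) ⊗[B] C) ((R ⊗[A] B) ⊗[B] N) 1)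
  have h4 := h1 h0
  have h5 := h4 n h'
  exact (phi_etale_iff γ hγ R n).2 h5

end Etale

set_option maxHeartbeats 800000 in
/-- The condition is detected on étale algebras meeting the associated points of the fibres. -/
theorem phi_of_cover [Algebra.FiniteType A B] [Module.Finite B N] [Module A N] [IsScalarTower A B N] {ι : Type} (C : ι → Type u) [∀ j, CommRing (C j)]
    [∀ j, Algebra B (C j)] [∀ j, Algebra A (C j)] [∀ j, IsScalarTower A B (C j)] [∀ j, Algebra.Etale B (C j)]
    (Nc : ι → Type u) [∀ j, AddCommGroup (Nc j)] [∀ j, Module (C j) (Nc j)] [∀ j, Module B (Nc j)]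
    [∀ j, IsScalarTower B (C j) (Nc j)] (γ : ∀ j, N →ₗ[B] Nc j) (hγ : ∀ j, IsBaseChange (C j) (γ j)) (g : A)
    (hcov : ∀ (t₀ : Ideal A) [t₀.IsPrime], g ∉ t₀ → ∀ (q₀ : Ideal B) [q₀.IsPrime] [q₀.LiesOver t₀],
      fiberIdeal t₀ q₀ ∈ associatedPrimes (t₀.Fiber B) (fiberMod t₀ B N) →
      ∃ (j : ι) (m : Ideal (C j)), m.IsPrime ∧ m.comap (algebraMap B (C j)) = q₀)
    (R : Type u) [CommRing R] [Algebra A R] (hg : IsUnit (algebraMap A R g)) (n : ℕ)
    (h : ∀ j, Phi A (C j) (Nc j) R 1 n) : Phi A B N R 1 n := by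
  rw [phi_one_iff]
  intro t Q _ _ hQt hnf
  let BR := R ⊗[A] B
  let G := BR ⊗[B] N
  haveI : Module.Finite BR G := inferInstance
  by_contra hlt
  refine hnf (RG6.flatAt_of_ass (R := R) (S := BR) G t Q fun q' _ hle hq't hass => ?_)
  by_contra hnf'
  let t₀ := t.comap (algebraMap A R)
  haveI : t.LiesOver t₀ := ⟨rfl⟩
  have hgt : g ∉ t₀ := fun hm => ‹t.IsPrime›.ne_top (Ideal.eq_top_of_isUnit_mem _ hm hg)
  obtain ⟨hl, hass₀⟩ := (RG6.Impure.ass_both (A₁ := A) (B₁ := B) (A₂ := R) (B₂ := BR) (φ := TensorProduct.mk B BR N 1)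
    (TensorProduct.isBaseChange B N BR) t₀ t).1 q' hq't hass
  haveI := hl
  obtain ⟨j, m, _, hm⟩ := hcov t₀ hgt _ hass₀
  let CR := BR ⊗[B] C j
  haveI : Algebra.IsPushout B BR (C j) CR := inferInstance
  obtain ⟨Q'', _, hQ'', -⟩ := FlatDescent8.exists_prime_over (R := B) (S := BR) (R' := C j) (S' := CR) q' m hm.symm
  haveI := hq't
  have h0 := TensorProduct.isBaseChange BR G CR
  have h1 := rdeg_lt_of_etale (R := R) (C := BR) (C' := CR) (G := G) (G' := CR ⊗[BR] G)
    (φ := TensorProduct.mk BR CR G 1)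
  have h4 := h1 h0 n
  have h5 := (phi_etale_iff (γ j) (hγ j) R n).1 (h j)
  have h6 := h4 h5
  have h2 : rdeg t q' < (n : Cardinal.{u}) := h6 t q' Q'' hQ'' hnf'
  exact hlt ((rdeg_le_of_le t q' Q hle).trans_lt h2)

end GrothLib.PureFlatRep8
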