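import Groth.Agent.Lib.PureFlatRep8.Linked
import Groth.Agent.Lib.HilbStrat10.Rep
import Groth.Agent.Lib.PureFlatRep8.Affine
import Groth.Agent.Lib.FittSheaf.PullbackFP
import Groth.Agent.Lib.GenCover.TildePull
import Groth.Agent.Lib.RepLocal.Basic
import Groth.Agent.Lib.FlatteningHens1.Dev
import Groth.Agent.Lib.AlgSp.SourceDescent

/-!
# The flattening monomorphism of a proper morphism of finite presentation
-/

set_option autoImplicit false
set_option linter.style.haveILetI false
set_option linter.unusedSectionVars false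
set_option backward.isDefEq.respectTransparency false
set_option maxHeartbeats 1600000

universe u

open TensorProduct FlatCA CategoryTheory CategoryTheory.Limits AlgebraicGeometry GrothLib.DevFlatRep8

namespace GrothLib.PureFlatRep8

attribute [local instance] Algebra.TensorProduct.rightAlgebra

/-- The base change of `F` along `t` is flat. -/
def Fl {X S T : Scheme.{u}} (f : X ⟶ S) (F : X.Modules) (t : T ⟶ S) : Prop :=
  FlatMod.IsFlatOver (pullback.snd f t) ((Scheme.Modules.pullback (pullback.fst f t)).obj F)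

section Fl

variable {X S T T' : Scheme.{u}} (f : X ⟶ S) (F : X.Modules) [F.IsQuasicoherent]

theorem fl_comp (t : T ⟶ S) (j : T' ⟶ T) (h : Fl f F t) : Fl f F (j ≫ t) :=
  HilbStrat10.isFlatOver_pullback_comp f t j F h

theorem fl_local (t : T ⟶ S) (h : ∀ x : T, ∃ W : T.Opens, x ∈ W ∧ Fl f F (W.ι ≫ t)) : Fl f F t :=
  HilbStrat10.isFlatOver_of_local f t F h

theorem fl_base_change {Y : Scheme.{u}} (a : Y ⟶ S) (t : T ⟶ Y) :
    Fl (pullback.snd f a) ((Scheme.Modules.pullback (pullback.fst f a)).obj F) t ↔ Fl f F (t ≫ a) := by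
  let k := pullback.fst (pullback.snd f a) t
  have hsq := (IsPullback.of_hasPullback (pullback.snd f a) t).paste_horiz (IsPullback.of_hasPullback f a)
  have e := (Scheme.Modules.pullbackComp k (pullback.fst f a)).app F
  haveI := FittSheaf.isQuasicoherent_pullback (pullback.fst f a) F
  constructor
  · intro h
    exact HilbStrat10.isFlatOver_of_square hsq (IsPullback.of_hasPullback f (t ≫ a)) F
      fun x => (FlatFP.isFlatOverAt_congr _ e x).1 (h x)
  · intro h x
    exact (FlatFP.isFlatOverAt_congr _ e x).2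
      (HilbStrat10.isFlatOver_of_square (IsPullback.of_hasPullback f (t ≫ a)) hsq F h x)

end Fl

theorem side_data {A B D : Type u} [CommRing A] [CommRing B] [CommRing D] [Algebra A B] [Algebra A D]
    (l : B →ₐ[A] D) (hl : l.toRingHom.Etale) (N : ModuleCat.{u} B) (ND : ModuleCat.{u} D)
    (e : (ModuleCat.extendScalars l.toRingHom).obj N ≅ ND) :
    ∃ (iA : Algebra B D) (_ : IsScalarTower A B D) (_ : Module B ND) (_ : IsScalarTower B D ND)
      (γ : N →ₗ[B] ND), Algebra.Etale B D ∧ IsBaseChange D γ ∧ ∀ x, @algebraMap B D _ _ iA x = l x := by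
  letI : Algebra B D := l.toRingHom.toAlgebra
  haveI : IsScalarTower A B D := IsScalarTower.of_algebraMap_eq fun x => (l.commutes x).symm
  letI : Module B ND := Module.compHom ND (algebraMap B D)
  haveI : IsScalarTower B D ND := IsScalarTower.of_algebraMap_smul fun _ _ => rfl
  let e' : D ⊗[B] N ≃ₗ[D] ND := e.toLinearEquiv
  exact ⟨inferInstance, inferInstance, inferInstance, inferInstance,
    (e'.restrictScalars B).toLinearMap ∘ₗ TensorProduct.mk B D N 1, RingHom.etale_algebraMap.1 hl,
    (TensorProduct.isBaseChange B N D).comp (IsBaseChange.ofEquiv e'), fun _ => rfl⟩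

theorem phi_zero_iff {A B N R : Type u} [CommRing A] [CommRing B] [Algebra A B] [AddCommGroup N] [Module B N]
    [CommRing R] [Algebra A R] : Phi A B N R 1 0 ↔ Module.Flat R ((R ⊗[A] B) ⊗[B] N) := by
  rw [phi_one_iff]
  let C := R ⊗[A] B
  constructor
  · intro h
    refine Module.flat_of_isLocalized_maximal C _ (fun P [P.IsMaximal] => LocalizedModule P.primeCompl (C ⊗[B] N))
      (fun P _ => LocalizedModule.mkLinearMap P.primeCompl (C ⊗[B] N)) fun P hP => ?_
    by_contra hc
    haveI := hP.isPrime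
    haveI : P.LiesOver (P.comap (algebraMap R C)) := ⟨rfl⟩
    exact not_lt_zero' (h (P.comap (algebraMap R C)) P hc |>.trans_eq Nat.cast_zero)
  · intro h t Q _ _ _ hnf
    exact absurd (FlatteningHens1.flatAt_of_flat' _ Q) hnf

theorem isFlatOver_tilde_iff {R C : CommRingCat.{u}} (φ : R ⟶ C) (M : ModuleCat.{u} C) [Module R M]
    (hc : ∀ (r : R) (m : M), r • m = φ r • m) : FlatMod.IsFlatOver (Spec.map φ) (tilde M) ↔ Module.Flat R M := by
  refine ⟨fun h => ?_, fun h => isFlatOver_tilde' φ M hc⟩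
  have h' := (isFlatOver_top_iff φ (tilde M)).1 h
  letI iN : Module R Γ(tilde M, ⊤) := Module.compHom _ φ.hom
  let eN := (tilde.isoTop M).toLinearEquiv
  let e' : M ≃ₗ[R] Γ(tilde M, ⊤) :=
    { toFun := fun x => eN x
      invFun := fun x => eN.symm x
      left_inv := eN.symm_apply_apply
      right_inv := eN.apply_symm_apply
      map_add' := map_add eN
      map_smul' := fun a x => by rw [hc]; exact eN.map_smul (φ a) x }
  exact Module.Flat.of_linearEquiv e'

/-- Every module over the spectrum of a field is flat over it. -/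
theorem isFlatOver_specField {K : Type u} [Field K] {X : Scheme.{u}} (f : X ⟶ Spec (CommRingCat.of K))
    (M : X.Modules) : FlatMod.IsFlatOver f M := by
  intro x
  let p := f.base x
  have hle : p.asIdeal.primeCompl ≤ IsUnit.submonoid K := fun a ha => by
    refine isUnit_iff_ne_zero.2 fun h0 => ha ?_
    rw [h0]
    exact Ideal.zero_mem _
  have hK : IsField (Localization.AtPrime p.asIdeal) :=
    MulEquiv.isField (Field.toIsField K)
      (IsLocalization.atUnits K p.asIdeal.primeCompl hle).toRingEquiv.toMulEquiv.symm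
  have hF : IsField ((Spec (CommRingCat.of K)).presheaf.stalk p) :=
    MulEquiv.isField hK (Spec.stalkIso (CommRingCat.of K) p).commRingCatIsoToRingEquiv.toMulEquiv
  letI := hF.toField
  letI := FlatMod.moduleStalkOver f M x
  show Module.Flat _ _
  infer_instance

/-- Over an affine base the flattening condition is represented by a monomorphism. -/
theorem affine_rep {X : Scheme.{u}} {A : CommRingCat.{u}} (g : X ⟶ Spec A) [IsProper g]
    [LocallyOfFinitePresentation g] (F : X.Modules) (hF : CohB1.IsFP F) :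
    ∃ (Z : Scheme.{u}) (i : Z ⟶ Spec A), Mono i ∧ LocallyOfFinitePresentation i ∧ QuasiCompact i ∧
      ∀ (R : CommRingCat.{u}) (φ : A ⟶ R), Fl g F (Spec.map φ) ↔ ∃ x, x ≫ i = Spec.map φ := by
  haveI : F.IsQuasicoherent := by haveI := hF; infer_instance
  haveI : CompactSpace X := QuasiCompact.compactSpace_of_compactSpace g
  haveI : X.IsSeparated := ⟨by rw [← terminal.comp_from g]; infer_instance⟩
  obtain ⟨T, p, hT, hp, hps⟩ := AlgSp.exists_affine_etale_cover (𝟙 X)
  rw [Category.comp_id] at hps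
  let B := Γ(T, ⊤)
  obtain ⟨u₀, hu₀⟩ : ∃ u₀ : Spec B ⟶ X, u₀ = T.isoSpec.inv ≫ p := ⟨_, rfl⟩
  haveI : Etale u₀ := hu₀ ▸ inferInstance
  haveI : Surjective u₀ := hu₀ ▸ inferInstance
  let ψ : A ⟶ B := Spec.preimage (u₀ ≫ g)
  have hψ : Spec.map ψ = u₀ ≫ g := Spec.map_preimage _
  letI : Algebra A B := ψ.hom.toAlgebra
  haveI : Algebra.FinitePresentation A B := by
    have h : LocallyOfFinitePresentation (Spec.map ψ) := by rw [hψ]; infer_instance
    rw [HasRingHomProperty.Spec_iff (P := @LocallyOfFinitePresentation)] at h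
    exact h
  haveI : IsAffineHom (u₀ ≫ g) := inferInstance
  haveI : IsAffineHom u₀ := IsAffineHom.of_comp u₀ g
  let Q := pullback u₀ u₀
  haveI : IsAffine Q := isAffine_of_isAffineHom (pullback.fst u₀ u₀)
  let D := Γ(Q, ⊤)
  let lR : B ⟶ D := Spec.preimage (Q.isoSpec.inv ≫ pullback.fst u₀ u₀)
  let rR : B ⟶ D := Spec.preimage (Q.isoSpec.inv ≫ pullback.snd u₀ u₀)
  have hl : Spec.map lR = Q.isoSpec.inv ≫ pullback.fst u₀ u₀ := Spec.map_preimage _
  have hr : Spec.map rR = Q.isoSpec.inv ≫ pullback.snd u₀ u₀ := Spec.map_preimage _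
  have hlr : ψ ≫ lR = ψ ≫ rR := Spec.map_inj.1 (by
    rw [Spec.map_comp, Spec.map_comp, hψ, hl, hr, Category.assoc, Category.assoc, pullback.condition_assoc])
  letI : Algebra A D := (ψ ≫ lR).hom.toAlgebra
  let l : B →ₐ[A] D := { lR.hom with commutes' := fun x => rfl }
  let r : B →ₐ[A] D := { rR.hom with commutes' := fun x => (congrArg (fun m => m.hom x) hlr).symm }
  have hle : lR.hom.Etale := by
    have h : Etale (Spec.map lR) := by rw [hl]; infer_instance
    rwa [HasRingHomProperty.Spec_iff (P := @Etale)] at h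
  have hre : rR.hom.Etale := by
    have h : Etale (Spec.map rR) := by rw [hr]; infer_instance
    rwa [HasRingHomProperty.Spec_iff (P := @Etale)] at h
  let G := (Scheme.Modules.pullback u₀).obj F
  haveI : G.IsQuasicoherent := FittSheaf.isQuasicoherent_pullback u₀ F
  let N : ModuleCat.{u} B := (moduleSpecΓFunctor (R := B)).obj G
  haveI : IsIso G.fromTildeΓ := inferInstance
  let eN : tilde N ≅ G := asIso G.fromTildeΓ
  haveI : Module.FinitePresentation B N := finitePresentation_top G (FittSheaf.isFP_pullback u₀ F hF)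
  letI : Module A N := Module.compHom N (algebraMap A B)
  haveI : IsScalarTower A B N := IsScalarTower.of_algebraMap_smul fun _ _ => rfl
  let ND : ModuleCat.{u} D := (ModuleCat.extendScalars lR.hom).obj N
  have hlu : Spec.map lR ≫ u₀ = Spec.map rR ≫ u₀ := by
    rw [hl, hr, Category.assoc, Category.assoc, pullback.condition]
  let er : (ModuleCat.extendScalars rR.hom).obj N ≅ ND := (tilde.functor D).preimageIso
    (((GenCover.pullTildeIso rR).app N).symm ≪≫ (Scheme.Modules.pullback (Spec.map rR)).mapIso eN ≪≫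
      (Scheme.Modules.pullbackComp (Spec.map rR) u₀).app F ≪≫ (Scheme.Modules.pullbackCongr hlu.symm).app F ≪≫
      ((Scheme.Modules.pullbackComp (Spec.map lR) u₀).app F).symm ≪≫
      (Scheme.Modules.pullback (Spec.map lR)).mapIso eN.symm ≪≫ (GenCover.pullTildeIso lR).app N)
  obtain ⟨al, tl, ml, sl, γ, hel, hγ, hal⟩ := side_data l hle N ND (Iso.refl _)
  obtain ⟨ar, tr, mr, sr, γ₂, her, hγ₂, har⟩ := side_data r hre N ND er
  -- points of a base change
  have hpb : ∀ (R : Type u) [CommRing R] [Algebra A R],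
      ∃ pc : Spec (CommRingCat.of (R ⊗[A] B)) ⟶ pullback g (Spec.map (CommRingCat.ofHom (algebraMap A R))),
        IsPullback (Spec.map (CommRingCat.ofHom (Algebra.TensorProduct.includeRight : B →ₐ[A] R ⊗[A] B).toRingHom)) pc
          u₀ (pullback.fst g (Spec.map (CommRingCat.ofHom (algebraMap A R)))) ∧
        pc ≫ pullback.snd g (Spec.map (CommRingCat.ofHom (algebraMap A R))) =
          Spec.map (CommRingCat.ofHom (Algebra.TensorProduct.includeLeftRingHom : R →+* R ⊗[A] B)) := by
    intro R _ _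
    let φ : A ⟶ CommRingCat.of R := CommRingCat.ofHom (algebraMap A R)
    have hsq := (isPullback_SpecMap_of_isPushout _ _ _ _ (CommRingCat.isPushout_tensorProduct A R B)).flip
    have hbig : IsPullback (Spec.map (CommRingCat.ofHom (Algebra.TensorProduct.includeRight : B →ₐ[A] R ⊗[A] B).toRingHom))
        (Spec.map (CommRingCat.ofHom (Algebra.TensorProduct.includeLeftRingHom : R →+* R ⊗[A] B))) (u₀ ≫ g) (Spec.map φ) :=
      hψ ▸ hsq
    refine ⟨pullback.lift (Spec.map (CommRingCat.ofHom Algebra.TensorProduct.includeRight.toRingHom) ≫ u₀)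
      (Spec.map (CommRingCat.ofHom Algebra.TensorProduct.includeLeftRingHom))
      ((Category.assoc _ _ _).trans hbig.w), ?_, pullback.lift_snd _ _ _⟩
    refine IsPullback.of_bot ?_ (pullback.lift_fst _ _ _).symm (IsPullback.of_hasPullback g (Spec.map φ))
    rw [pullback.lift_snd]
    exact hbig
  have hL : Linked A B B N N := by
    refine ⟨D, inferInstance, inferInstance, al, ar, tl, tr, ND, inferInstance, inferInstance, ml, sl, mr, sr, γ, γ₂,
      hel, her, hγ, hγ₂, ?_⟩
    intro R _ _ t pp _ _ htp K _ _ σ a hσ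
    let φ : A ⟶ CommRingCat.of R := CommRingCat.ofHom (algebraMap A R)
    obtain ⟨pc, hpc, hpcs⟩ := hpb R
    haveI : Flat pc := MorphismProperty.of_isPullback (P := @Flat) hpc inferInstance
    haveI : Surjective pc := MorphismProperty.of_isPullback (P := @Surjective) hpc inferInstance
    let σ' : CommRingCat.of R ⟶ CommRingCat.of K := CommRingCat.ofHom σ.toRingHom
    let a' : B ⟶ CommRingCat.of K := CommRingCat.ofHom a.toRingHom
    let h : Spec (CommRingCat.of K) ⟶ pullback g (Spec.map φ) := pullback.lift (Spec.map a' ≫ u₀) (Spec.map σ') (by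
      rw [Category.assoc, ← hψ, ← Spec.map_comp, ← Spec.map_comp]
      congr 1
      ext x
      exact (a.commutes x).trans (σ.commutes x).symm)
    let x₀ : Spec (CommRingCat.of K) := (⊥ : PrimeSpectrum K)
    let s := pullback.snd g (Spec.map φ)
    have hy : s (h x₀) = (⟨t, inferInstance⟩ : PrimeSpectrum R) := by
      rw [← Scheme.Hom.comp_apply, pullback.lift_snd]
      apply PrimeSpectrum.ext
      show Ideal.comap σ.toRingHom ⊥ = t
      rw [← hσ]; rfl
    have hsp : s (h x₀) ⤳ (⟨pp, inferInstance⟩ : PrimeSpectrum R) :=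
      hy ▸ (PrimeSpectrum.le_iff_specializes _ _).1 htp
    obtain ⟨y', hyy', hy'⟩ := s.isClosedMap.specializingMap hsp
    obtain ⟨z', hz'⟩ := pc.surjective y'
    obtain ⟨z, hzz', hz⟩ := Flat.generalizingMap pc (show h x₀ ⤳ pc z' by rw [hz']; exact hyy')
    obtain ⟨w, hw₁, hw₂⟩ := Scheme.Pullback.exists_preimage_pullback (f := h) (g := pc) x₀ z hz.symm
    let W := pullback h pc
    let L := W.residueField w
    let eK : CommRingCat.of K ⟶ L := Spec.preimage (W.fromSpecResidueField w ≫ pullback.fst h pc)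
    let χ : CommRingCat.of (R ⊗[A] B) ⟶ L := Spec.preimage (W.fromSpecResidueField w ≫ pullback.snd h pc)
    have heK : Spec.map eK ≫ h = Spec.map χ ≫ pc := by
      rw [Spec.map_preimage, Spec.map_preimage, Category.assoc, Category.assoc, pullback.condition]
    have h1 : σ' ≫ eK = CommRingCat.ofHom Algebra.TensorProduct.includeLeftRingHom ≫ χ := Spec.map_inj.1 (by
      rw [Spec.map_comp, Spec.map_comp, ← hpcs, ← Category.assoc, ← heK, Category.assoc, pullback.lift_snd])
    have h2 : Spec.map (a' ≫ eK) ≫ u₀ =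
        Spec.map (CommRingCat.ofHom Algebra.TensorProduct.includeRight.toRingHom ≫ χ) ≫ u₀ := by
      rw [Spec.map_comp, Spec.map_comp, Category.assoc, Category.assoc, hpc.w, ← Category.assoc, ← Category.assoc,
        ← heK, Category.assoc, Category.assoc, pullback.lift_fst]
    let c' : D ⟶ L := Spec.preimage (pullback.lift _ _ h2 ≫ Q.isoSpec.hom)
    have hcl : lR ≫ c' = a' ≫ eK := Spec.map_inj.1 (by
      rw [Spec.map_comp, Spec.map_preimage, hl, Category.assoc, Iso.hom_inv_id_assoc, pullback.lift_fst])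
    have hcr : rR ≫ c' = CommRingCat.ofHom Algebra.TensorProduct.includeRight.toRingHom ≫ χ := Spec.map_inj.1 (by
      rw [Spec.map_comp, Spec.map_preimage, hr, Category.assoc, Iso.hom_inv_id_assoc, pullback.lift_snd])
    letI : Algebra A L := (eK.hom.comp (algebraMap A K)).toAlgebra
    let e : K →ₐ[A] L := { eK.hom with commutes' := fun _ => rfl }
    have hc' : ∀ x : A, c'.hom (algebraMap A D x) = algebraMap A L x := fun x => by
      show c'.hom (lR.hom (algebraMap A B x)) = eK.hom (algebraMap A K x)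
      rw [← a.commutes x]
      exact congrArg (fun m => m.hom (algebraMap A B x)) hcl
    let c : D →ₐ[A] L := { c'.hom with commutes' := hc' }
    refine ⟨L, inferInstance, inferInstance, e, c, fun x => ?_, z'.asIdeal, z'.isPrime, ⟨?_⟩, ?_⟩
    · rw [hal]
      exact congrArg (fun m => m.hom x) hcl
    · have h3 : Spec.map (CommRingCat.ofHom Algebra.TensorProduct.includeLeftRingHom) z' = (⟨pp, inferInstance⟩ : PrimeSpectrum R) := by
        rw [← hpcs, Scheme.Hom.comp_apply, hz', hy']
      exact (congrArg PrimeSpectrum.asIdeal h3).symm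
    · have hzker : RingHom.ker χ.hom = z.asIdeal := by
        rw [← hw₂]
        have h4 : pullback.snd h pc w = Spec.map χ ((⊥ : PrimeSpectrum L) : Spec L) := by
          rw [Spec.map_preimage, Scheme.Hom.comp_apply, Scheme.fromSpecResidueField_apply]
        rw [h4]
        rfl
      refine le_trans (le_of_eq ?_) ((PrimeSpectrum.le_iff_specializes z z').2 hzz')
      rw [← hzker]
      congr 1
      have hχ : ∀ x : A, χ.hom (algebraMap A (R ⊗[A] B) x) = algebraMap A L x := fun x => by
        show χ.hom (algebraMap A (R ⊗[A] B) x) = eK.hom (algebraMap A K x)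
        rw [← σ.commutes x]
        exact (congrArg (fun m => m.hom (algebraMap A R x)) h1).symm
      refine congrArg AlgHom.toRingHom (a₂ := ({ χ.hom with commutes' := hχ } : R ⊗[A] B →ₐ[A] L)) ?_
      refine Algebra.TensorProduct.ext' fun ρ b => ?_
      rw [Algebra.TensorProduct.lift_tmul]
      show eK.hom (σ ρ) * c'.hom (algebraMap B D b) = χ.hom (ρ ⊗ₜ b)
      rw [show (ρ ⊗ₜ b : R ⊗[A] B) = (ρ ⊗ₜ 1) * (1 ⊗ₜ b) by rw [Algebra.TensorProduct.tmul_mul_tmul, mul_one, one_mul],
        map_mul, har]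
      exact congrArg₂ (· * ·) (congrArg (fun m => m.hom ρ) h1) (congrArg (fun m => m.hom b) hcr)
  obtain ⟨Z, i, hm, hlf, hq, hi⟩ := repAll (N : Type u) (fun n => spreadsOverCharts_of_linked (N : Type u) hL n) 0
  refine ⟨Z, i, hm, hlf, hq, fun R φ => ?_⟩
  letI : Algebra A R := φ.hom.toAlgebra
  show Fl g F (Spec.map (CommRingCat.ofHom (algebraMap A R))) ↔ _
  refine Iff.trans ?_ (phi_zero_iff.symm.trans (hi R))
  obtain ⟨pc, hpc, hpcs⟩ := hpb R
  haveI : Flat pc := MorphismProperty.of_isPullback (P := @Flat) hpc inferInstance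
  haveI : Surjective pc := MorphismProperty.of_isPullback (P := @Surjective) hpc inferInstance
  let iR : B ⟶ CommRingCat.of (R ⊗[A] B) := CommRingCat.ofHom Algebra.TensorProduct.includeRight.toRingHom
  let M : ModuleCat.{u} (CommRingCat.of (R ⊗[A] B)) := (ModuleCat.extendScalars iR.hom).obj N
  let eM : (Scheme.Modules.pullback pc).obj ((Scheme.Modules.pullback (pullback.fst g (Spec.map φ))).obj F) ≅ tilde M :=
    (Scheme.Modules.pullbackComp pc _).app F ≪≫ (Scheme.Modules.pullbackCongr hpc.w.symm).app F ≪≫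
      ((Scheme.Modules.pullbackComp (Spec.map iR) u₀).app F).symm ≪≫
      (Scheme.Modules.pullback (Spec.map iR)).mapIso eN.symm ≪≫ (GenCover.pullTildeIso iR).app N
  letI iRM : Module R M := Module.compHom M (algebraMap R (R ⊗[A] B))
  rw [Fl, FlatDesc.isFlatOver_iff_pullback pc, hpcs]
  refine Iff.trans ⟨fun h x => (FlatFP.isFlatOverAt_congr _ eM x).1 (h x), fun h x => (FlatFP.isFlatOverAt_congr _ eM x).2 (h x)⟩
    ((isFlatOver_tilde_iff _ M fun _ _ => rfl).trans ?_)
  let e : M ≃ₗ[R] (R ⊗[A] B) ⊗[B] N :=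
    { toFun := id, invFun := id, left_inv := fun _ => rfl, right_inv := fun _ => rfl, map_add' := fun _ _ => rfl
      map_smul' := fun r x => IsScalarTower.algebraMap_smul (M := (R ⊗[A] B) ⊗[B] N) (R ⊗[A] B) r x }
  exact ⟨fun _ => Module.Flat.of_linearEquiv e.symm, fun _ => Module.Flat.of_linearEquiv e⟩

/-- The affine statement for arbitrary test schemes. -/
theorem affine_rep' {X : Scheme.{u}} {A : CommRingCat.{u}} (g : X ⟶ Spec A) [IsProper g]
    [LocallyOfFinitePresentation g] (F : X.Modules) (hF : CohB1.IsFP F) :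
    ∃ (Z : Scheme.{u}) (i : Z ⟶ Spec A), Mono i ∧ LocallyOfFinitePresentation i ∧ QuasiCompact i ∧
      ∀ (T : Scheme.{u}) (t : T ⟶ Spec A), Fl g F t ↔ ∃ x, x ≫ i = t := by
  haveI : F.IsQuasicoherent := by haveI := hF; infer_instance
  obtain ⟨Z, i, hm, hl, hq, hi⟩ := affine_rep g F hF
  haveI := hm
  have huniv : Fl g F i := by
    refine fl_local g F i fun z => ?_
    obtain ⟨W, hW, hzW, -⟩ := exists_isAffineOpen_mem_and_subset (show z ∈ (⊤ : Z.Opens) from trivial)
    refine ⟨W, hzW, ?_⟩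
    haveI : IsAffine (W : Scheme.{u}) := hW
    let φ := Spec.preimage (hW.fromSpec ≫ i)
    have h := (hi _ φ).2 ⟨hW.fromSpec, (Spec.map_preimage _).symm⟩
    have := fl_comp g F (Spec.map φ) hW.isoSpec.hom h
    rwa [show hW.isoSpec.hom ≫ Spec.map φ = W.ι ≫ i by
      rw [Spec.map_preimage, ← Category.assoc, IsAffineOpen.isoSpec_hom_fromSpec]] at this
  refine ⟨Z, i, hm, hl, hq, fun T t => ⟨fun h => ?_, fun ⟨x, hx⟩ => hx ▸ fl_comp g F i x huniv⟩⟩
  let 𝒰 := T.affineOpenCover
  have hloc : ∀ j, ∃ x, x ≫ i = 𝒰.f j ≫ t := fun j => by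
    have h' := (hi _ (Spec.preimage (𝒰.f j ≫ t))).1 (by rw [Spec.map_preimage]; exact fl_comp g F t _ h)
    simpa only [Spec.map_preimage] using h'
  choose x hx using hloc
  refine ⟨Scheme.Cover.glueMorphisms 𝒰.openCover x fun j k => ?_, Scheme.Cover.hom_ext 𝒰.openCover _ _ fun j => ?_⟩
  · rw [← cancel_mono i, Category.assoc, Category.assoc]
    show pullback.fst _ _ ≫ x j ≫ i = pullback.snd _ _ ≫ x k ≫ i
    rw [hx, hx]; exact pullback.condition_assoc t
  · rw [Scheme.Cover.ι_glueMorphisms_assoc]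
    exact hx j

/-- The flattening monomorphism. -/
theorem exists_flattening_mono {X S : Scheme.{u}} (f : X ⟶ S) [IsProper f] [LocallyOfFinitePresentation f]
    (F : X.Modules) (hF : CohB1.IsFP F) :
    ∃ (S' : Scheme.{u}) (ι : S' ⟶ S), Mono ι ∧ LocallyOfFinitePresentation ι ∧ QuasiCompact ι ∧ Surjective ι ∧
      ∀ (T : Scheme.{u}) (t : T ⟶ S), Fl f F t ↔ ∃ t' : T ⟶ S', t' ≫ ι = t := by
  haveI : F.IsQuasicoherent := by haveI := hF; infer_instance
  let P : RepLocal.Psh.{0} S :=
    { obj := fun T => PLift (Fl f F T.hom)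
      map := fun a x => ⟨by rw [← Over.w a]; exact fl_comp f F _ a.left x.down⟩
      map_id := fun _ _ => rfl
      map_comp := fun _ _ _ => rfl }
  have hP : RepLocal.IsLocal P := fun T x _ => by
    refine ⟨⟨fl_local f F T.hom fun t => ?_⟩, fun U => rfl, fun _ _ => rfl⟩
    obtain ⟨U, hU, htU, -⟩ := exists_isAffineOpen_mem_and_subset (show T.hom t ∈ (⊤ : S.Opens) from trivial)
    refine ⟨T.hom ⁻¹ᵁ U, htU, ?_⟩
    let k : ↑(T.hom ⁻¹ᵁ U) ⟶ pullback T.hom U.ι :=
      pullback.lift (T.hom ⁻¹ᵁ U).ι (T.hom ∣_ U) (morphismRestrict_ι T.hom U).symm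
    have := fl_comp f F _ k (x ⟨U, hU⟩).down
    rwa [show k ≫ (RepLocal.res T U).hom = (T.hom ⁻¹ᵁ U).ι ≫ T.hom from by
      show k ≫ pullback.fst T.hom U.ι ≫ T.hom = _
      rw [pullback.lift_fst_assoc]] at this
  have hloc : ∀ U : S.affineOpens, ∃ (N : Over S) (n : P.obj N), RepLocal.RepOn P U.1 N n ∧
      ∀ q : N.left ⟶ (U.1 : Scheme.{u}), q ≫ U.1.ι = N.hom → LocallyOfFinitePresentation q ∧ QuasiCompact q := by
    rintro ⟨U, hU⟩
    let a := hU.fromSpec
    let F' := (Scheme.Modules.pullback (pullback.fst f a)).obj F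
    haveI : F'.IsQuasicoherent := FittSheaf.isQuasicoherent_pullback (pullback.fst f a) F
    obtain ⟨Z, i, hm, hl, hq, hi⟩ := affine_rep' (pullback.snd f a) F' (FittSheaf.isFP_pullback _ F hF)
    haveI := hm
    haveI := hl
    haveI := hq
    let N : Over S := Over.mk (i ≫ a)
    refine ⟨N, ⟨(fl_base_change f F a i).1 ((hi _ _).2 ⟨𝟙 _, Category.id_comp _⟩)⟩,
      ⟨⟨i ≫ hU.isoSpec.inv, by rw [Category.assoc, IsAffineOpen.isoSpec_inv_ι]; rfl⟩, fun T hT x => ?_⟩, fun q hq' => ?_⟩
    · obtain ⟨q, hq'⟩ := hT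
      have ht : (q ≫ hU.isoSpec.hom) ≫ a = T.hom := by
        rw [Category.assoc, IsAffineOpen.isoSpec_hom_fromSpec, hq']
      obtain ⟨b, hb⟩ := (hi _ (q ≫ hU.isoSpec.hom)).1 ((fl_base_change f F a _).2 (ht ▸ x.down))
      haveI : Mono (i ≫ a) := mono_comp _ _
      refine ⟨Over.homMk b (by show b ≫ i ≫ a = T.hom; rw [← Category.assoc, hb, ht]), rfl, fun b' _ => ?_⟩
      apply Over.OverMorphism.ext
      rw [← cancel_mono (i ≫ a)]
      exact (Over.w b').trans (by show _ = b ≫ i ≫ a; rw [← Category.assoc, hb, ht])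
    · have : q = i ≫ hU.isoSpec.inv := by
        rw [← cancel_mono U.ι, hq', Category.assoc, IsAffineOpen.isoSpec_inv_ι]; rfl
      subst this
      exact ⟨inferInstance, inferInstance⟩
  obtain ⟨M, m, hM⟩ := RepLocal.exists_representing P hP fun U => (hloc U).imp fun N ⟨n, h, _⟩ => ⟨n, h⟩
  have hl : LocallyOfFinitePresentation M.hom :=
    RepLocal.prop_of_local P @LocallyOfFinitePresentation M m hM fun U =>
      (hloc U).imp fun N ⟨n, h, h'⟩ => ⟨n, h, fun q hq => (h' q hq).1⟩
  have hq : QuasiCompact M.hom :=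
    RepLocal.prop_of_local P @QuasiCompact M m hM fun U =>
      (hloc U).imp fun N ⟨n, h, h'⟩ => ⟨n, h, fun q hq => (h' q hq).2⟩
  have hiff : ∀ (T : Scheme.{u}) (t : T ⟶ S), Fl f F t ↔ ∃ t' : T ⟶ M.left, t' ≫ M.hom = t := fun T t => by
    refine ⟨fun h => ?_, fun ⟨t', ht⟩ => ht ▸ fl_comp f F M.hom t' m.down⟩
    obtain ⟨a, -, -⟩ := hM (Over.mk t) ⟨h⟩
    exact ⟨a.left, Over.w a⟩
  refine ⟨M.left, M.hom, ⟨fun {T} a b hab => ?_⟩, hl, hq, ⟨fun s => ?_⟩, hiff⟩
  · have hf : Fl f F (a ≫ M.hom) := fl_comp f F M.hom a m.down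
    exact congrArg (fun j => j.left) ((hM (Over.mk (a ≫ M.hom)) ⟨hf⟩).unique
      (y₁ := Over.homMk a rfl) (y₂ := Over.homMk b hab.symm) rfl rfl)
  · let j := S.fromSpecResidueField s
    obtain ⟨t', ht'⟩ := (hiff _ j).1 (isFlatOver_specField (pullback.snd f j) _)
    obtain ⟨x, hx⟩ : ∃ x, j x = s := ⟨(⊥ : PrimeSpectrum (S.residueField s)), Scheme.fromSpecResidueField_apply _ _⟩
    exact ⟨t' x, by rw [← Scheme.Hom.comp_apply, ht', hx]⟩

end GrothLib.PureFlatRep8
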