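import Groth.Agent.Lib.PureFlatRep8.Phi
import Groth.Agent.Lib.EssDim.BaseChange
import Groth.Agent.Lib.PureDesc13.Stage

/-!
# Flatness in dimensions `≥ n` is stable under base change
-/

set_option autoImplicit false
set_option linter.style.haveILetI false
set_option linter.unusedSectionVars false
set_option backward.isDefEq.respectTransparency false
set_option maxHeartbeats 400000

universe u

open TensorProduct FlatCA GrothLib.DevFlatRep8

namespace GrothLib.PureFlatRep8

attribute [local instance] Algebra.TensorProduct.rightAlgebra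

theorem trdeg_le_of_gen {k k' L L' : Type u} [Field k] [Field k'] [Field L] [Field L'] [Algebra k k'] [Algebra k L]
    [Algebra k' L'] [Algebra L L'] [Algebra k L'] [IsScalarTower k k' L'] [IsScalarTower k L L']
    (hgen : IntermediateField.adjoin k' (Set.range (algebraMap L L')) = ⊤) :
    Algebra.trdeg k' L' ≤ Algebra.trdeg k L := by
  let φ : L →ₐ[k] L' := IsScalarTower.toAlgHom k L L'
  have h1 : ((φ.fieldRange : IntermediateField k L') : Set L') = Set.range (algebraMap L L') := rfl
  have h2 := GrothLib.EssDim.trdeg_adjoin_le (K := k') φ.fieldRange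
  rw [h1] at h2
  rw [← ((IntermediateField.equivOfEq hgen).trans IntermediateField.topEquiv).trdeg_eq]
  exact h2.trans_eq ((AlgEquiv.ofInjectiveField φ).trdeg_eq).symm

theorem rdeg_le_of_pushout {R R' C C' : Type u} [CommRing R] [CommRing R'] [CommRing C] [CommRing C'] [Algebra R R']
    [Algebra R C] [Algebra R' C'] [Algebra C C'] [Algebra R C'] [IsScalarTower R R' C'] [IsScalarTower R C C']
    [Algebra.IsPushout R R' C C'] (t : Ideal R) (t' : Ideal R') (Q : Ideal C) (Q' : Ideal C') [t.IsPrime] [t'.IsPrime]
    [Q.IsPrime] [Q'.IsPrime] [t'.LiesOver t] [Q.LiesOver t] [Q'.LiesOver t'] [Q'.LiesOver Q] :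
    rdeg t' Q' ≤ rdeg t Q := by
  haveI : Q'.LiesOver t := Ideal.LiesOver.trans Q' t' t
  letI : Algebra t.ResidueField t'.ResidueField := (res t t').toAlgebra
  letI : Algebra t.ResidueField Q.ResidueField := (res t Q).toAlgebra
  letI : Algebra t'.ResidueField Q'.ResidueField := (res t' Q').toAlgebra
  letI : Algebra Q.ResidueField Q'.ResidueField := (res Q Q').toAlgebra
  letI : Algebra t.ResidueField Q'.ResidueField := (res t Q').toAlgebra
  haveI : IsScalarTower t.ResidueField t'.ResidueField Q'.ResidueField :=
    IsScalarTower.of_algebraMap_eq' (res_comp t t' Q')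
  haveI : IsScalarTower t.ResidueField Q.ResidueField Q'.ResidueField :=
    IsScalarTower.of_algebraMap_eq' (res_comp t Q Q')
  refine trdeg_le_of_gen (k := t.ResidueField) (k' := t'.ResidueField) (L := Q.ResidueField) (L' := Q'.ResidueField)
    (eq_top_iff.2 fun z _ => ?_)
  let E := IntermediateField.adjoin t'.ResidueField (Set.range (algebraMap Q.ResidueField Q'.ResidueField))
  have hC : IsBaseChange R' (IsScalarTower.toAlgHom R C C').toLinearMap := Algebra.IsPushout.out
  have hmem : ∀ c : C', algebraMap C' Q'.ResidueField c ∈ E := fun c => by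
    induction c using hC.inductionOn with
    | zero => rw [map_zero]; exact zero_mem _
    | tmul x =>
      refine IntermediateField.subset_adjoin _ _ ⟨algebraMap C Q.ResidueField x, ?_⟩
      show res Q Q' (algebraMap C Q.ResidueField x) = _
      rw [res_algebraMap]
      exact IsScalarTower.algebraMap_apply C C' Q'.ResidueField x
    | smul r c h =>
      rw [Algebra.smul_def, map_mul]
      refine mul_mem ?_ h
      rw [← IsScalarTower.algebraMap_apply R' C' Q'.ResidueField, ← res_algebraMap t' Q' r]
      exact E.algebraMap_mem _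
    | add x y hx hy => rw [map_add]; exact add_mem hx hy
  obtain ⟨x, w, rfl⟩ := exists_div z
  exact div_mem (hmem x) (hmem w)

/-- Base change preserves flatness in dimensions `≥ n`. -/
theorem phi_mono {A B : Type u} [CommRing A] [CommRing B] [Algebra A B] [Algebra.FinitePresentation A B]
    {N : Type u} [AddCommGroup N] [Module B N] [Module A N] [IsScalarTower A B N]
    {R R' : Type u} [CommRing R] [CommRing R'] [Algebra A R] [Algebra A R'] [Algebra R R'] [IsScalarTower A R R']
    (n : ℕ) (h : Phi A B N R 1 n) : Phi A B N R' 1 n := by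
  refine (phi_one_iff n).2 ?_
  have h' := (phi_one_iff n).1 h
  haveI : Algebra.IsPushout A B R (R ⊗[A] B) := Algebra.IsPushout.symm inferInstance
  haveI : Algebra.IsPushout A B R' (R' ⊗[A] B) := Algebra.IsPushout.symm inferInstance
  obtain ⟨_, _, _, _, _, hsq, _, _, φ, hφ, -⟩ := RG6.Impure.exists_map (A₁ := R) (B₁ := R ⊗[A] B) (A₂ := R')
    (B₂ := R' ⊗[A] B) (f₁ := TensorProduct.mk B (R ⊗[A] B) N 1) (f₂ := TensorProduct.mk B (R' ⊗[A] B) N 1) ‹_›
    (TensorProduct.isBaseChange B N (R ⊗[A] B)) ‹_› (TensorProduct.isBaseChange B N (R' ⊗[A] B))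
  haveI := hsq
  intro t' Q' _ _ hQt' hnf
  let C := R ⊗[A] B
  let C' := R' ⊗[A] B
  let t := t'.comap (algebraMap R R')
  let Q := Q'.comap (algebraMap C C')
  haveI : t'.LiesOver t := ⟨rfl⟩
  haveI : Q'.LiesOver Q := ⟨rfl⟩
  haveI : Q.LiesOver t := ⟨by
    show t'.comap (algebraMap R R') = (Q'.comap (algebraMap C C')).comap (algebraMap R C)
    rw [hQt'.over]
    show (Q'.comap (algebraMap R' C')).comap (algebraMap R R') = _
    rw [Ideal.comap_comap, Ideal.comap_comap, ← IsScalarTower.algebraMap_eq R R' C', ← IsScalarTower.algebraMap_eq R C C']⟩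
  have h1 : ¬ FlatAt R Q (C ⊗[B] N) := fun hf => hnf
    (GrothLib.PureDesc13.flatAt_up (R := A) (B₀ := B) (M₀ := N) (S := R) (BS := C) (T := R') (BT := C')
      (TensorProduct.isBaseChange B N C) (TensorProduct.isBaseChange B N C') (algebraMap C C')
      (fun s => by rw [← IsScalarTower.algebraMap_apply, IsScalarTower.algebraMap_apply R R' C'])
      (fun b => (IsScalarTower.algebraMap_apply B C C' b).symm) Q' hf)
  exact (rdeg_le_of_pushout t t' Q Q').trans_lt (h' t Q h1)

end GrothLib.PureFlatRep8
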